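import Groth.Agent.H54.FSchQc.Glue

/-!
# Cocycles of vectors of functions modulo relations split on affine formal schemes
-/

set_option autoImplicit false
set_option linter.style.haveILetI false
set_option maxHeartbeats 1000000

universe u

open CategoryTheory CategoryTheory.Limits AlgebraicGeometry TopologicalSpace Opposite
open Groth.Agent.Lib.QCoh.Localizing
open Groth.Agent.H30 Groth.Agent.H30.RealLimSec

namespace Groth.Agent.H54.FSchQc

/-- A vector lying locally in a span on a basic open is killed into it by a power. -/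
theorem exists_pow_mem {X : Scheme.{u}} {U : X.Opens} (hU : IsAffineOpen U) (g : Γ(X, U)) {n m : ℕ}
    (r : Fin m → Fin n → Γ(X, U)) (c : Fin n → Γ(X, U))
    (h : ∀ z ∈ X.basicOpen g, ∃ (O : X.Opens) (hO : O ≤ X.basicOpen g) (_ : z ∈ O) (d : Fin m → Γ(X, O)),
      ∀ i, resR (hO.trans (X.basicOpen_le g)) (c i) = ∑ j, d j * resR (hO.trans (X.basicOpen_le g)) (r j i)) :
    ∃ (N : ℕ) (d : Fin m → Γ(X, U)), ∀ i, g ^ N * c i = ∑ j, d j * r j i := by
  classical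
  obtain ⟨d, hd⟩ := SchPres.exists_coeff_of_locally (hU.basicOpen g)
    (fun j i => resR (X.basicOpen_le g) (r j i)) (fun i => resR (X.basicOpen_le g) (c i)) fun z hz => by
      obtain ⟨O, hO, hzO, d, hd⟩ := h z hz
      exact ⟨O, hO, hzO, d, fun i => by simpa only [resR_resR] using hd i⟩
  obtain ⟨K', a', ha'⟩ := SchPres.exists_clear hU g d
  have hz : ∀ i, ∃ N : ℕ, g ^ N * (g ^ K' * c i) = g ^ N * ∑ j, a' j * r j i := by
    intro i
    letI : Algebra Γ(X, U) Γ(X, X.basicOpen g) := (resR (X.basicOpen_le g)).toAlgebra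
    haveI := hU.isLocalization_basicOpen g
    obtain ⟨⟨_, N, rfl⟩, hN⟩ := (IsLocalization.eq_iff_exists (Submonoid.powers g)
      Γ(X, X.basicOpen g)).1 (show algebraMap Γ(X, U) Γ(X, X.basicOpen g) (g ^ K' * c i) =
        algebraMap Γ(X, U) Γ(X, X.basicOpen g) (∑ j, a' j * r j i) by
      show resR (X.basicOpen_le g) (g ^ K' * c i) = resR (X.basicOpen_le g) (∑ j, a' j * r j i)
      simp only [map_mul, map_pow, map_sum, ha', mul_assoc, ← Finset.mul_sum, hd i])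
    exact ⟨N, hN⟩
  choose N hN using hz
  refine ⟨(∑ i, N i) + K', fun j => g ^ (∑ i, N i) * a' j, fun i => ?_⟩
  obtain ⟨q, hq⟩ := Nat.exists_eq_add_of_le
    (Finset.single_le_sum (fun j _ => Nat.zero_le (N j)) (Finset.mem_univ i))
  simp only [mul_assoc, ← Finset.mul_sum]
  rw [pow_add, mul_assoc, hq, pow_add, mul_comm (g ^ N i), mul_assoc, mul_assoc, hN i]

/-- Cocycles modulo a span split on an affine open of a scheme. -/
theorem sch_h1 {X : Scheme.{u}} {U : X.Opens} (hU : IsAffineOpen U) {n m : ℕ}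
    (r : Fin m → Fin n → Γ(X, U)) {ι : Type*} [Finite ι] (V : ι → X.Opens) (hV : ∀ α, IsAffineOpen (V α))
    (hVV : ∀ α β, IsAffineOpen (V α ⊓ V β)) (hle : ∀ α, V α ≤ U) (hcov : ∀ x ∈ U, ∃ α, x ∈ V α)
    (c : ∀ α β, Fin n → Γ(X, V α ⊓ V β))
    (hc : ∀ α β γ, ∀ x ∈ V α ⊓ V β ⊓ V γ, ∃ (O : X.Opens) (h₁ : O ≤ V α ⊓ V β) (h₂ : O ≤ V β ⊓ V γ)
      (h₃ : O ≤ V α ⊓ V γ) (_ : x ∈ O) (d : Fin m → Γ(X, O)),
        ∀ i, resR h₃ (c α γ i) - resR h₁ (c α β i) - resR h₂ (c β γ i) =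
          ∑ j, d j * resR (h₁.trans (inf_le_left.trans (hle α))) (r j i)) :
    ∃ y : ∀ α, Fin n → Γ(X, V α), ∀ α β, ∃ d : Fin m → Γ(X, V α ⊓ V β),
      ∀ i, c α β i - (resR inf_le_left (y α i) - resR inf_le_right (y β i)) =
        ∑ j, d j * resR (inf_le_left.trans (hle α)) (r j i) := by
  classical
  haveI := Fintype.ofFinite ι
  let P : Ideal Γ(X, U) :=
    { carrier := {a | ∃ y : ∀ α, Fin n → Γ(X, V α), ∀ α β, ∃ d : Fin m → Γ(X, V α ⊓ V β),
        ∀ i, resR (inf_le_left.trans (hle α)) a * c α β i -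
            (resR inf_le_left (y α i) - resR inf_le_right (y β i)) =
          ∑ j, d j * resR (inf_le_left.trans (hle α)) (r j i)}
      zero_mem' := ⟨0, fun α β => ⟨0, fun i => by simp⟩⟩
      add_mem' := by
        rintro a b ⟨ya, ha⟩ ⟨yb, hb⟩
        refine ⟨ya + yb, fun α β => ?_⟩
        obtain ⟨d, hd⟩ := ha α β
        obtain ⟨d', hd'⟩ := hb α β
        refine ⟨d + d', fun i => ?_⟩
        simp only [Pi.add_apply, map_add, add_mul, Finset.sum_add_distrib, ← hd i, ← hd' i]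
        ring
      smul_mem' := by
        rintro e a ⟨ya, ha⟩
        refine ⟨fun α i => resR (hle α) e * ya α i, fun α β => ?_⟩
        obtain ⟨d, hd⟩ := ha α β
        refine ⟨fun j => resR (inf_le_left.trans (hle α)) e * d j, fun i => ?_⟩
        simp only [smul_eq_mul, map_mul, mul_assoc, ← Finset.mul_sum, ← hd i, resR_resR]
        ring }
  have hP : P = ⊤ := by
    refine Groth.Agent.Lib.CohBasics.Affine.ideal_eq_top hU P fun x hx => ?_
    obtain ⟨γ, hxγ⟩ := hcov x hx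
    obtain ⟨g, hgV, hxg⟩ := hU.exists_basicOpen_le (⟨x, hxγ⟩ : V γ) hx
    have hD : ∀ α, X.basicOpen (resR (hle α) g) ≤ V α ⊓ V γ := fun α => le_inf (X.basicOpen_le _)
      ((Scheme.basicOpen_res X g (homOfLE (hle α)).op).le.trans (inf_le_right.trans hgV))
    choose K a ha using fun α => SchPres.exists_clear (hV α) (resR (hle α) g)
      (fun i => resR (hD α) (c α γ i))
    let a' : ∀ α, Fin n → Γ(X, V α) := fun α i => resR (hle α) g ^ ((∑ δ, K δ) - K α) * a α i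
    have hk : ∀ p : ι × ι, ∃ (N : ℕ) (d : Fin m → Γ(X, V p.1 ⊓ V p.2)), ∀ i,
        resR (inf_le_left.trans (hle p.1)) g ^ N *
          (resR (inf_le_left.trans (hle p.1)) g ^ (∑ δ, K δ) * c p.1 p.2 i -
            (resR inf_le_left (a' p.1 i) - resR inf_le_right (a' p.2 i))) =
          ∑ j, d j * resR (inf_le_left.trans (hle p.1)) (r j i) := by
      rintro ⟨α, β⟩
      have hle' : V α ⊓ V β ≤ U := inf_le_left.trans (hle α)
      refine exists_pow_mem (hVV α β) (resR hle' g) _ _ fun z hz => ?_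
      have hz' := (Scheme.basicOpen_res X g (homOfLE hle').op).le hz
      obtain ⟨O, h₁, h₂, h₃, hzO, d, hd⟩ := hc α β γ z ⟨hz'.1, hgV hz'.2⟩
      let O' := X.basicOpen (resR hle' g) ⊓ O
      have eO : O' ≤ O := inf_le_right
      have eα : O' ≤ X.basicOpen (resR (hle α) g) := by
        refine le_trans ?_ (Scheme.basicOpen_res X g (homOfLE (hle α)).op).ge
        exact le_inf (eO.trans (h₁.trans inf_le_left))
          (inf_le_left.trans ((Scheme.basicOpen_res X g (homOfLE hle').op).le.trans inf_le_right))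
      have eβ : O' ≤ X.basicOpen (resR (hle β) g) := by
        refine le_trans ?_ (Scheme.basicOpen_res X g (homOfLE (hle β)).op).ge
        exact le_inf (eO.trans (h₁.trans inf_le_right))
          (inf_le_left.trans ((Scheme.basicOpen_res X g (homOfLE hle').op).le.trans inf_le_right))
      have eU : O' ≤ U := eO.trans (h₁.trans hle')
      refine ⟨O', inf_le_left, ⟨hz, hzO⟩, fun j => - (resR eU g ^ (∑ δ, K δ) * resR eO (d j)), fun i => ?_⟩
      have hq : ∀ δ, ∀ (e : O' ≤ X.basicOpen (resR (hle δ) g)),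
          resR (e.trans (X.basicOpen_le _)) (a' δ i) =
            resR eU g ^ (∑ ε, K ε) * resR (e.trans (hD δ)) (c δ γ i) := by
        intro δ e
        have h1 := congrArg (resR e) (ha δ i)
        simp only [map_mul, map_pow, resR_resR] at h1
        simp only [a', map_mul, map_pow, resR_resR, h1]
        rw [← mul_assoc, ← pow_add, Nat.sub_add_cancel (Finset.single_le_sum (fun j _ => Nat.zero_le (K j))
          (Finset.mem_univ δ))]
      have h1 := congrArg (resR eO) (hd i)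
      simp only [map_sub, map_sum, map_mul, resR_resR] at h1
      simp only [map_sub, map_mul, map_pow, resR_resR]
      rw [hq α eα, hq β eβ]
      simp only [neg_mul, mul_assoc, Finset.sum_neg_distrib, ← Finset.mul_sum, ← h1]
      ring
    choose N d hd using hk
    refine ⟨g ^ ((∑ p, N p) + 1) * g ^ (∑ δ, K δ),
      ⟨fun α i => resR (hle α) g ^ ((∑ p, N p) + 1) * a' α i, fun α β => ?_⟩, ?_⟩
    · obtain ⟨q, hq⟩ := Nat.exists_eq_add_of_le
        ((Finset.single_le_sum (fun j _ => Nat.zero_le (N j)) (Finset.mem_univ (α, β))).trans (Nat.le_succ _))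
      have hq' : (∑ p, N p) + 1 = N (α, β) + q := hq
      refine ⟨fun j => resR (inf_le_left.trans (hle α)) g ^ q * d (α, β) j, fun i => ?_⟩
      simp only [mul_assoc, ← Finset.mul_sum, ← hd (α, β) i]
      simp only [map_mul, map_pow, resR_resR, hq', pow_add]
      ring
    · rw [← pow_add]
      exact (X.mem_basicOpen _ x hx).mpr
        (by rw [map_pow]; exact ((X.mem_basicOpen g x hx).mp hxg).pow _)
  obtain ⟨y, hy⟩ := show (1 : Γ(X, U)) ∈ P by rw [hP]; trivial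
  refine ⟨y, fun α β => ?_⟩
  obtain ⟨d, hd⟩ := hy α β
  exact ⟨d, fun i => by simpa using hd i⟩

variable {𝔛 : FSch.Sys.{u}} (h𝔛 : 𝔛.IsLocNoethFormal)

/-- Cocycles modulo a span split on an affine open of a formal scheme. -/
theorem h1 {W : (𝔛.X 0).Opens} (hW : IsAffineOpen W) {n m : ℕ}
    (r : Fin m → Fin n → Levels.A 𝔛 h𝔛.1 W) {ι : Type*} [Finite ι] (V : ι → (𝔛.X 0).Opens)
    (hV : ∀ α, IsAffineOpen (V α)) (hVV : ∀ α β, IsAffineOpen (V α ⊓ V β))
    (hle : ∀ α, V α ≤ W) (hcov : ∀ x ∈ W, ∃ α, x ∈ V α)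
    (c : ∀ α β, Fin n → Levels.A 𝔛 h𝔛.1 (V α ⊓ V β))
    (hc : ∀ α β γ, ∀ x ∈ V α ⊓ V β ⊓ V γ, ∃ (O : (𝔛.X 0).Opens) (h₁ : O ≤ V α ⊓ V β) (h₂ : O ≤ V β ⊓ V γ)
      (h₃ : O ≤ V α ⊓ V γ) (_ : x ∈ O) (d : Fin m → Levels.A 𝔛 h𝔛.1 O),
        ∀ i, CohPres.resA h𝔛.1 h₃ (c α γ i) - CohPres.resA h𝔛.1 h₁ (c α β i) -
            CohPres.resA h𝔛.1 h₂ (c β γ i) =
          ∑ j, d j * CohPres.resA h𝔛.1 (h₁.trans (inf_le_left.trans (hle α))) (r j i)) :
    ∃ y : ∀ α, Fin n → Levels.A 𝔛 h𝔛.1 (V α), ∀ α β, ∃ d : Fin m → Levels.A 𝔛 h𝔛.1 (V α ⊓ V β),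
      ∀ i, c α β i - (CohPres.resA h𝔛.1 inf_le_left (y α i) - CohPres.resA h𝔛.1 inf_le_right (y β i)) =
        ∑ j, d j * CohPres.resA h𝔛.1 (inf_le_left.trans (hle α)) (r j i) := by
  classical
  have hlev : ∀ t, ∃ L : ∀ α, Fin n → Levels.A 𝔛 h𝔛.1 (V α), ∀ α β,
      ∃ d : Fin m → Levels.B 𝔛 h𝔛.1 t (V α ⊓ V β), ∀ i, Levels.proj 𝔛 h𝔛.1 t (V α ⊓ V β)
          (c α β i - (CohPres.resA h𝔛.1 inf_le_left (L α i) - CohPres.resA h𝔛.1 inf_le_right (L β i))) =
        ∑ j, d j * Levels.proj 𝔛 h𝔛.1 t (V α ⊓ V β)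
          (CohPres.resA h𝔛.1 (inf_le_left.trans (hle α)) (r j i)) := by
    intro t
    obtain ⟨y, hy⟩ := sch_h1 (OshBasic.isAffineOpen_lvU 𝔛 h𝔛.1 t hW)
      (fun j i => Levels.proj 𝔛 h𝔛.1 t W (r j i)) (fun α => 𝔛.lvU h𝔛.1 t (V α))
      (fun α => OshBasic.isAffineOpen_lvU 𝔛 h𝔛.1 t (hV α))
      (fun α β => OshBasic.isAffineOpen_lvU 𝔛 h𝔛.1 t (hVV α β))
      (fun α => CohPres.lvU_mono h𝔛.1 t (hle α))
      (fun w hw => hcov (𝔛.gInv h𝔛.1 t w) hw)
      (fun α β i => Levels.proj 𝔛 h𝔛.1 t (V α ⊓ V β) (c α β i))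
      fun α β γ w hw => by
        obtain ⟨O, h₁, h₂, h₃, hxO, d, hd⟩ := hc α β γ (𝔛.gInv h𝔛.1 t w) hw
        refine ⟨𝔛.lvU h𝔛.1 t O, CohPres.lvU_mono h𝔛.1 t h₁, CohPres.lvU_mono h𝔛.1 t h₂,
          CohPres.lvU_mono h𝔛.1 t h₃, hxO, fun j => Levels.proj 𝔛 h𝔛.1 t O (d j), fun i => ?_⟩
        have h1 := congrArg (Levels.proj 𝔛 h𝔛.1 t O).hom (hd i)
        simp only [map_sub, map_sum, map_mul, CohPres.proj_resA] at h1
        exact h1
    choose L hL using fun α i => ((Levels.adic h𝔛 (hV α)).2.1 t).1 (y α i)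
    refine ⟨L, fun α β => ?_⟩
    obtain ⟨d, hd⟩ := hy α β
    refine ⟨d, fun i => ?_⟩
    simp only [map_sub, CohPres.proj_resA, hL]
    exact hd i
  choose L dL hL using hlev
  have hstep : ∀ t, ∃ (Z : Fin n → Levels.A 𝔛 h𝔛.1 W) (δ : ∀ α, Fin m → Levels.A 𝔛 h𝔛.1 (V α)),
      ∀ α i, Levels.proj 𝔛 h𝔛.1 t (V α) (L (t + 1) α i - L t α i - CohPres.resA h𝔛.1 (hle α) (Z i) -
        ∑ j, δ α j * CohPres.resA h𝔛.1 (hle α) (r j i)) = 0 := by
    intro t
    obtain ⟨Y, hY⟩ := sch_glue (OshBasic.isAffineOpen_lvU 𝔛 h𝔛.1 t hW)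
      (fun j i => Levels.proj 𝔛 h𝔛.1 t W (r j i)) (fun α => 𝔛.lvU h𝔛.1 t (V α))
      (fun α => OshBasic.isAffineOpen_lvU 𝔛 h𝔛.1 t (hV α)) (fun α => CohPres.lvU_mono h𝔛.1 t (hle α))
      (fun w hw => hcov (𝔛.gInv h𝔛.1 t w) hw)
      (fun α i => Levels.proj 𝔛 h𝔛.1 t (V α) (L (t + 1) α i - L t α i))
      fun α β w hw => by
        refine ⟨𝔛.lvU h𝔛.1 t (V α ⊓ V β), CohPres.lvU_mono h𝔛.1 t inf_le_left,
          CohPres.lvU_mono h𝔛.1 t inf_le_right, hw,
          fun j => dL t α β j - Levels.trans 𝔛 h𝔛.1 t (V α ⊓ V β) (dL (t + 1) α β j), fun i => ?_⟩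
        have h1 := congrArg (Levels.trans 𝔛 h𝔛.1 t (V α ⊓ V β)).hom (hL (t + 1) α β i)
        have h2 := hL t α β i
        have hpt : ∀ a, Levels.trans 𝔛 h𝔛.1 t (V α ⊓ V β)
            (Levels.proj 𝔛 h𝔛.1 (t + 1) (V α ⊓ V β) a) = Levels.proj 𝔛 h𝔛.1 t (V α ⊓ V β) a :=
          fun a => ConcreteCategory.congr_hom (Levels.proj_trans 𝔛 h𝔛.1 t (V α ⊓ V β)) a
        simp only [map_sub, map_sum, map_mul] at h1 h2
        simp only [hpt] at h1
        simp only [CohPres.proj_resA] at h1 h2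
        simp only [map_sub, resR_resR, sub_mul, Finset.sum_sub_distrib, ← h1, ← h2]
        ring
    choose d hd using hY
    choose Z hZ using fun i => ((Levels.adic h𝔛 hW).2.1 t).1 (Y i)
    choose δ hδ using fun α j => ((Levels.adic h𝔛 (hV α)).2.1 t).1 (d α j)
    refine ⟨Z, δ, fun α i => ?_⟩
    simp only [map_sub, map_sum, map_mul, CohPres.proj_resA, hZ, hδ]
    rw [sub_eq_zero, ← map_sub]
    exact hd α i
  choose Z δ hδ using hstep
  let C : ℕ → ∀ α, Fin m → Levels.A 𝔛 h𝔛.1 (V α) := fun t α j => ∑ s ∈ Finset.range t, δ s α j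
  let Q : ℕ → Fin n → Levels.A 𝔛 h𝔛.1 W := fun t i => ∑ s ∈ Finset.range t, Z s i
  let M : ℕ → ∀ α, Fin n → Levels.A 𝔛 h𝔛.1 (V α) := fun t α i =>
    L t α i - CohPres.resA h𝔛.1 (hle α) (Q t i) - ∑ j, C t α j * CohPres.resA h𝔛.1 (hle α) (r j i)
  have hM : ∀ t α i, Levels.proj 𝔛 h𝔛.1 t (V α) (M (t + 1) α i) =
      Levels.proj 𝔛 h𝔛.1 t (V α) (M t α i) := by
    intro t α i
    rw [← sub_eq_zero, ← map_sub]
    refine Eq.trans (congrArg _ ?_) (hδ t α i)
    simp only [M, C, Q, Finset.sum_range_succ, map_add, add_mul, Finset.sum_add_distrib]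
    ring
  choose y hy using fun α i => Levels.exists_of_compatible (𝔛 := 𝔛) (h := h𝔛.1) (V := V α)
    (fun t => Levels.proj 𝔛 h𝔛.1 t (V α) (M t α i)) fun t =>
      (ConcreteCategory.congr_hom (Levels.proj_trans 𝔛 h𝔛.1 t (V α)) (M (t + 1) α i)).trans (hM t α i)
  refine ⟨y, fun α β => mem_span_of_levels h𝔛 (hVV α β) _ _ fun t => ?_⟩
  refine ⟨fun j => dL t α β j + Levels.proj 𝔛 h𝔛.1 t (V α ⊓ V β)
    (CohPres.resA h𝔛.1 inf_le_left (C t α j) - CohPres.resA h𝔛.1 inf_le_right (C t β j)), fun i => ?_⟩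
  have h1 := hL t α β i
  simp only [map_sub, CohPres.proj_resA] at h1 ⊢
  rw [hy α i t, hy β i t]
  simp only [M, map_sub, map_sum, map_mul, CohPres.proj_resA, resR_resR, add_mul, sub_mul,
    Finset.sum_add_distrib, Finset.sum_sub_distrib, ← h1]
  ring

end Groth.Agent.H54.FSchQc
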