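import Groth.Agent.H54.FSchQc.Main
import Groth.Agent.H54.FSchQc.H1

/-!
# Extensions and five-term sequences of quasi-coherent modules on formal schemes
-/

set_option autoImplicit false
set_option linter.style.haveILetI false
set_option maxHeartbeats 1000000

universe u

open CategoryTheory CategoryTheory.Limits AlgebraicGeometry TopologicalSpace Opposite
open Groth.Agent.H30 Groth.Agent.H30.RealLimSec Groth.Agent.H22.IndColim

namespace Groth.Agent.H54.FSchQc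

/-- Coordinatewise criterion for a split cocycle. -/
theorem sub_eq_of_split {A₁ A₂ A A' I : Type*} [CommRing A₁] [CommRing A₂] [CommRing A] [CommRing A']
    (f : A₁ →+* A') (g : A₂ →+* A') (e : A →+* A') {n m : ℕ} (σ : Fin n → I) (hσ : Function.Injective σ)
    (Y₁ : Fin n → A₁) (Y₂ : Fin n → A₂) (c : I →₀ A') (d : Fin m → A') (B : Fin m → I →₀ A)
    (R₁ : (I →₀ A₁) → (I →₀ A')) (hR₁ : ∀ b k, R₁ b k = f (b k))
    (R₂ : (I →₀ A₂) → (I →₀ A')) (hR₂ : ∀ b k, R₂ b k = g (b k))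
    (R : (I →₀ A) → (I →₀ A')) (hR : ∀ b k, R b k = e (b k))
    (h : ∀ i, c (σ i) - (f (Y₁ i) - g (Y₂ i)) = ∑ j, d j * e (B j (σ i)))
    (h0 : ∀ k ∉ Set.range σ, c k = 0 ∧ ∀ j, B j k = 0) :
    c - (R₁ (∑ i, Finsupp.single (σ i) (Y₁ i)) - R₂ (∑ i, Finsupp.single (σ i) (Y₂ i))) =
      ∑ j, d j • R (B j) := by
  classical
  refine Finsupp.ext fun k => ?_
  simp only [hR₁, hR₂, hR, Finsupp.sub_apply, Finsupp.finsetSum_apply, Finsupp.smul_apply, smul_eq_mul,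
    Finsupp.single_apply]
  by_cases hk : k ∈ Set.range σ
  · obtain ⟨i, rfl⟩ := hk
    simp [hσ.eq_iff, ← h i]
  · obtain ⟨hc, hB⟩ := h0 k hk
    rw [Finset.sum_eq_zero fun i _ => if_neg fun hh => hk ⟨i, hh⟩,
      Finset.sum_eq_zero fun i _ => if_neg fun hh => hk ⟨i, hh⟩, hc]
    simp [hB]

variable {𝔛 : FSch.Sys.{u}} (h𝔛 : 𝔛.IsLocNoethFormal)

set_option maxHeartbeats 8000000 in
/-- Cocycles with values in a module presented near an affine open split. -/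
theorem exists_split {G : FSch.ModF 𝔛 h𝔛.1} {W₀ : (𝔛.X 0).Opens}
    (p : (SheafOfModules.over G W₀).Presentation) {W : (𝔛.X 0).Opens} (hW : IsAffineOpen W) (e : W ≤ W₀)
    {ι : Type*} [Finite ι] (V : ι → (𝔛.X 0).Opens) (hV : ∀ α, IsAffineOpen (V α))
    (hVV : ∀ α β, IsAffineOpen (V α ⊓ V β)) (hle : ∀ α, V α ≤ W) (hcov : ∀ x ∈ W, ∃ α, x ∈ V α)
    (δ : ∀ α β, sec h𝔛.1 G (V α ⊓ V β))
    (hδ : ∀ α β γ (O : (𝔛.X 0).Opens) (h₁ : O ≤ V α ⊓ V β) (h₂ : O ≤ V β ⊓ V γ) (h₃ : O ≤ V α ⊓ V γ),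
      CohPres.resF h𝔛.1 G h₃ (δ α γ) - CohPres.resF h𝔛.1 G h₁ (δ α β) -
        CohPres.resF h𝔛.1 G h₂ (δ β γ) = 0) :
    ∃ k : ∀ α, sec h𝔛.1 G (V α), ∀ α β,
      CohPres.resF h𝔛.1 G inf_le_left (k α) - CohPres.resF h𝔛.1 G inf_le_right (k β) = δ α β := by
  classical
  haveI : IsLocallyNoetherian (𝔛.X 0) := h𝔛.2.2 0
  haveI := Fintype.ofFinite ι
  have eV : ∀ α β, V α ⊓ V β ≤ W := fun α β => inf_le_left.trans (hle α)
  choose c hc using fun α β : ι =>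
    exists_comb h𝔛 p (hVV α β) ((eV α β).trans e) (δ α β)
  obtain ⟨K, B, hB, hex⟩ := QcFT.exists_local_exact h𝔛 p hW e
  have htrip : ∀ q : ι × ι × ι, ∃ U : Finset K, ∀ z ∈ V q.1 ⊓ V q.2.1 ⊓ V q.2.2,
      ∃ (O : (𝔛.X 0).Opens) (h₁ : O ≤ V q.1 ⊓ V q.2.1) (h₂ : O ≤ V q.2.1 ⊓ V q.2.2)
        (h₃ : O ≤ V q.1 ⊓ V q.2.2) (_ : z ∈ O) (d : K →₀ Levels.A 𝔛 h𝔛.1 O), d.support ⊆ U ∧
          QcFT.rA h𝔛 h₃ (c q.1 q.2.2) - QcFT.rA h𝔛 h₁ (c q.1 q.2.1) -
              QcFT.rA h𝔛 h₂ (c q.2.1 q.2.2) =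
            d.sum fun j a => a • QcFT.rA h𝔛 (h₁.trans (eV q.1 q.2.1)) (B j) := by
    rintro ⟨α, β, γ⟩
    let O₀ := V α ⊓ V β ⊓ V γ
    have g₁ : O₀ ≤ V α ⊓ V β := inf_le_left
    have g₂ : O₀ ≤ V β ⊓ V γ := le_inf (inf_le_left.trans inf_le_right) inf_le_right
    have g₃ : O₀ ≤ V α ⊓ V γ := le_inf (inf_le_left.trans inf_le_left) inf_le_right
    let v := QcFT.rA h𝔛 g₃ (c α γ) - QcFT.rA h𝔛 g₁ (c α β) - QcFT.rA h𝔛 g₂ (c β γ)
    have hv : QcFT.comb h𝔛 p.generators ((g₁.trans (eV α β)).trans e) v = 0 := by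
      rw [map_sub, map_sub, ← QcFT.comb_res h𝔛 p.generators ((eV α γ).trans e) g₃,
        ← QcFT.comb_res h𝔛 p.generators ((eV α β).trans e) g₁,
        ← QcFT.comb_res h𝔛 p.generators ((eV β γ).trans e) g₂, hc, hc, hc]
      exact hδ α β γ O₀ g₁ g₂ g₃
    choose O eO hzO d hd using fun z : O₀ => hex O₀ (g₁.trans (eV α β)) v hv z.1 z.2
    obtain ⟨S, hS⟩ := (QuasiSeparatedSpace.inter_isCompact _ _ (V α ⊓ V β).2 (hVV α β).isCompact
      (V γ).2 (hV γ).isCompact).elim_finite_subcover (fun z : O₀ => (O z : Set (𝔛.X 0)))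
      (fun z => (O z).2) fun z hz => Set.mem_iUnion.2 ⟨⟨z, hz⟩, hzO ⟨z, hz⟩⟩
    refine ⟨S.biUnion fun z => (d z).support, fun z hz => ?_⟩
    obtain ⟨w, hw, hzw⟩ := Set.mem_iUnion₂.1 (hS hz)
    refine ⟨O w, (eO w).trans g₁, (eO w).trans g₂, (eO w).trans g₃, hzw, d w,
      fun j hj => Finset.mem_biUnion.2 ⟨w, hw, hj⟩, ?_⟩
    refine Eq.trans ?_ (hd w)
    ext i
    simp only [v, QcFT.rA_apply, Finsupp.sub_apply, map_sub, Groth.Agent.H22.IndColim.resA_resA]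
  choose U hU using htrip
  let U' : Finset K := Finset.univ.biUnion U
  let I' : Finset p.generators.I :=
    (Finset.univ.biUnion fun q : ι × ι => (c q.1 q.2).support) ∪ U'.biUnion fun j => (B j).support
  let σ : Fin I'.card ≃ I' := I'.equivFin.symm
  let τ : Fin U'.card ≃ U' := U'.equivFin.symm
  have hI1 : ∀ (q : ι × ι) (k : p.generators.I), k ∉ I' → c q.1 q.2 k = 0 := fun q k hk =>
    Finsupp.notMem_support_iff.1 fun hh =>
      hk (Finset.mem_union_left _ (Finset.mem_biUnion.2 ⟨q, Finset.mem_univ _, hh⟩))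
  have hI2 : ∀ (j : K), j ∈ U' → ∀ k : p.generators.I, k ∉ I' → B j k = 0 := fun j hj k hk =>
    Finsupp.notMem_support_iff.1 fun hh =>
      hk (Finset.mem_union_right _ (Finset.mem_biUnion.2 ⟨j, hj, hh⟩))
  have hU' : ∀ q (j : K), j ∈ U q → j ∈ U' := fun q j hj =>
    Finset.mem_biUnion.2 ⟨q, Finset.mem_univ _, hj⟩
  clear_value σ τ I' U'
  obtain ⟨y, hy⟩ := h1 h𝔛 hW (fun j i => B (τ j).1 (σ i).1) V hV hVV hle hcov
    (fun α β i => c α β (σ i).1) fun α β γ x hx => by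
      obtain ⟨O, h₁, h₂, h₃, hxO, d, hsup, hd⟩ := hU (α, β, γ) x hx
      refine ⟨O, h₁, h₂, h₃, hxO, fun j => d (τ j).1, fun i => ?_⟩
      have h1 := congrArg (fun f : p.generators.I →₀ Levels.A 𝔛 h𝔛.1 O => f (σ i).1) hd
      rw [Finsupp.sum, Finset.sum_subset (s₂ := U')
        (fun j hj => hU' (α, β, γ) j (hsup hj))
        (fun j _ hj => by rw [Finsupp.notMem_support_iff.1 hj, zero_smul])] at h1
      simp only [Finsupp.sub_apply, QcFT.rA_apply, Finsupp.finsetSum_apply, Finsupp.smul_apply,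
        smul_eq_mul] at h1
      rw [h1, τ.sum_comp fun j => d j.1 * CohPres.resA h𝔛.1 _ (B j.1 (σ i).1),
        Finset.sum_coe_sort U' fun j => d j * CohPres.resA h𝔛.1 _ (B j (σ i).1)]
  refine ⟨fun α => QcFT.comb h𝔛 p.generators ((hle α).trans e)
    (∑ i, Finsupp.single (σ i).1 (y α i)), fun α β => ?_⟩
  obtain ⟨d, hd⟩ := hy α β
  have hv := sub_eq_of_split (CohPres.resA h𝔛.1 (inf_le_left : V α ⊓ V β ≤ V α))
    (CohPres.resA h𝔛.1 (inf_le_right : V α ⊓ V β ≤ V β)) (CohPres.resA h𝔛.1 (eV α β))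
    (fun i => (σ i).1) (Subtype.val_injective.comp σ.injective) (y α) (y β) (c α β) d
    (fun j => B (τ j).1)
    (fun b => QcFT.rA h𝔛 inf_le_left b) (fun b k => QcFT.rA_apply ..)
    (fun b => QcFT.rA h𝔛 inf_le_right b) (fun b k => QcFT.rA_apply ..)
    (fun b => QcFT.rA h𝔛 (eV α β) b) (fun b k => QcFT.rA_apply ..) hd
    fun k hk => by
      have hk' : k ∉ I' := fun hh => hk ⟨σ.symm ⟨k, hh⟩, by simp only [Equiv.apply_symm_apply]⟩
      exact ⟨hI1 (α, β) k hk', fun j => hI2 (τ j).1 (τ j).2 k hk'⟩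
  have h2 := congrArg (QcFT.comb h𝔛 p.generators ((eV α β).trans e)) hv
  rw [map_sub, map_sub, hc] at h2
  have h3 : QcFT.comb h𝔛 p.generators ((eV α β).trans e)
      (∑ j, d j • QcFT.rA h𝔛 (eV α β) (B (τ j).1)) = 0 := by
    rw [map_sum]
    refine Finset.sum_eq_zero fun j _ => ?_
    rw [map_smul, ← QcFT.comb_res h𝔛 p.generators e (eV α β), hB, map_zero, smul_zero]
  beta_reduce
  rw [QcFT.comb_res, QcFT.comb_res]
  exact (sub_eq_zero.1 (h2.trans h3)).symm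

/-- Gluing sections. -/
theorem exists_glued (M : FSch.ModF 𝔛 h𝔛.1) {U : (𝔛.X 0).Opens} {ι : Type u} (V : ι → (𝔛.X 0).Opens)
    (hle : ∀ α, V α ≤ U) (hcov : ∀ x ∈ U, ∃ α, x ∈ V α) (y : ∀ α, sec h𝔛.1 M (V α))
    (hy : ∀ α β, CohPres.resF h𝔛.1 M (inf_le_left : V α ⊓ V β ≤ V α) (y α) =
      CohPres.resF h𝔛.1 M (inf_le_right : V α ⊓ V β ≤ V β) (y β)) :
    ∃ s : sec h𝔛.1 M U, ∀ α, CohPres.resF h𝔛.1 M (hle α) s = y α := by
  obtain ⟨s, hs, -⟩ := TopCat.Sheaf.existsUnique_gluing' (C := AddCommGrpCat.{u}) (X := (𝔛.X 0).carrier)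
    ((SheafOfModules.toSheaf (ModSite.ringSh (𝔛.Osh h𝔛.1))).obj M) V U (fun α => homOfLE (hle α))
    (fun x hx => Opens.mem_iSup.2 (hcov x hx)) y fun α β => hy α β
  exact ⟨s, hs⟩

variable {S : ShortComplex (FSch.ModF 𝔛 h𝔛.1)} (hS : S.ShortExact)

include hS in
/-- Sections of the quotient over a small affine open lift. -/
theorem surjective_of_presentation {W₀ : (𝔛.X 0).Opens} (p : (SheafOfModules.over S.X₁ W₀).Presentation)
    {W : (𝔛.X 0).Opens} (hW : IsAffineOpen W) (e : W ≤ W₀) :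
    Function.Surjective (secMap h𝔛.1 S.g W) := by
  classical
  haveI := hS.mono_f
  haveI := hS.epi_g
  intro t
  have hloc : ∀ z : W, ∃ (f : Γ(𝔛.X 0, W)) (_ : z.1 ∈ (𝔛.X 0).basicOpen f)
      (x : sec h𝔛.1 S.X₂ ((𝔛.X 0).basicOpen f)),
      secMap h𝔛.1 S.g _ x = CohPres.resF h𝔛.1 S.X₃ ((𝔛.X 0).basicOpen_le f) t := by
    intro z
    obtain ⟨V, hVW, x, hzV, hx⟩ := exists_preimage S.g t z.2
    obtain ⟨f, hf, hzf⟩ := hW.exists_basicOpen_le (⟨z.1, hzV⟩ : V) z.2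
    exact ⟨f, hzf, CohPres.resF h𝔛.1 S.X₂ hf x, by
      rw [Groth.Agent.H22.IndColim.secMap_res, hx, Groth.Agent.H22.IndColim.resF_resF]⟩
  choose f hzf x hx using hloc
  obtain ⟨T, hT⟩ := hW.isCompact.elim_finite_subcover
    (fun z : W => ((𝔛.X 0).basicOpen (f z) : Set (𝔛.X 0)))
    (fun z => ((𝔛.X 0).basicOpen (f z)).2) fun z hz => Set.mem_iUnion.2 ⟨⟨z, hz⟩, hzf ⟨z, hz⟩⟩
  let V : T → (𝔛.X 0).Opens := fun α => (𝔛.X 0).basicOpen (f α.1)
  have hle : ∀ α, V α ≤ W := fun α => (𝔛.X 0).basicOpen_le _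
  have hcov : ∀ z ∈ W, ∃ α, z ∈ V α := fun z hz => by
    obtain ⟨w, hw, hzw⟩ := Set.mem_iUnion₂.1 (hT hz)
    exact ⟨⟨w, hw⟩, hzw⟩
  have hVV : ∀ α β, IsAffineOpen (V α ⊓ V β) := fun α β => by
    have := hW.basicOpen (f α.1 * f β.1)
    rwa [Scheme.basicOpen_mul] at this
  choose δ hδ using fun α β : T => exists_lift h𝔛 hS
    (CohPres.resF h𝔛.1 S.X₂ (inf_le_left : V α ⊓ V β ≤ V α) (x α.1) -
      CohPres.resF h𝔛.1 S.X₂ (inf_le_right : V α ⊓ V β ≤ V β) (x β.1)) (by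
      rw [map_sub, secMap_res, secMap_res, hx, hx, resF_resF, resF_resF, sub_self])
  obtain ⟨k, hk⟩ := exists_split h𝔛 p hW e V (fun α => hW.basicOpen _) hVV hle hcov
    δ fun α β γ O h₁ h₂ h₃ => by
      refine CohCons.secMap_injective S.f O ?_
      rw [map_sub, map_sub, map_zero, secMap_res, secMap_res, secMap_res, hδ, hδ, hδ]
      simp only [map_sub, resF_resF]
      abel
  obtain ⟨s, hs⟩ := exists_glued h𝔛 S.X₂ V hle hcov (fun α => x α.1 - secMap h𝔛.1 S.f _ (k α))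
    fun α β => by
      rw [← sub_eq_zero, map_sub, map_sub, ← secMap_res, ← secMap_res]
      have h1 := congrArg (secMap h𝔛.1 S.f (V α ⊓ V β)) (hk α β)
      rw [map_sub, hδ α β] at h1
      linear_combination (norm := module) (-1 : ℤ) • h1
  refine ⟨s, sub_eq_zero.1 (TorsCoh.eq_zero_of_locally _ _ fun z hz => ?_)⟩
  obtain ⟨α, hzα⟩ := hcov z hz
  refine ⟨V α, hle α, hzα, ?_⟩
  rw [map_sub, ← secMap_res, hs, map_sub, hx, ← secMap_comp, S.zero]
  exact (sub_eq_zero.2 (sub_zero _))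

include hS in
/-- An extension of modules with good affine opens is good there. -/
theorem good_ext {W : (𝔛.X 0).Opens} (hsur : Function.Surjective (secMap h𝔛.1 S.g W))
    (h₁ : Good h𝔛 S.X₁ W) (h₃ : Good h𝔛 S.X₃ W) : Good h𝔛 S.X₂ W := by
  classical
  haveI := hS.mono_f
  refine ⟨fun Z hZ s _ z hz => ?_, fun m b _ Z hZ c hc z hz => ?_⟩
  · obtain ⟨V, hVZ, n, a, γ, hzV, -, hγ⟩ := h₃.1 Z hZ (secMap h𝔛.1 S.g Z s) trivial z hz
    choose β hβ using fun l => hsur (γ l)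
    obtain ⟨t, ht⟩ := exists_lift h𝔛 hS (CohPres.resF h𝔛.1 S.X₂ hVZ s -
      ∑ l, a l • CohPres.resF h𝔛.1 S.X₂ (hVZ.trans hZ) (β l)) (by
        rw [map_sub, map_sum]
        simp only [map_smul, secMap_res, hβ]
        rw [← hγ, sub_self])
    obtain ⟨U, hUV, n', a', w, hzU, -, hw⟩ := h₁.1 V (hVZ.trans hZ) t trivial z hzV
    refine ⟨U, hUV.trans hVZ, n + n',
      fun q => Sum.elim (rv h𝔛.1 hUV a) a' (finSumFinEquiv.symm q),
      fun q => Sum.elim β (fun i => secMap h𝔛.1 S.f W (w i)) (finSumFinEquiv.symm q),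
      hzU, fun _ => trivial, ?_⟩
    rw [finSumFinEquiv.symm.sum_comp fun q => Sum.elim (rv h𝔛.1 hUV a) a' q •
      CohPres.resF h𝔛.1 S.X₂ ((hUV.trans hVZ).trans hZ) (Sum.elim β (fun i => secMap h𝔛.1 S.f W (w i)) q),
      Fintype.sum_sum_type]
    simp only [Sum.elim_inl, Sum.elim_inr, ← secMap_res, ← map_smul]
    rw [← map_sum, ← hw, secMap_res, ht, map_sub, resF_resF, sum_res_res]
    exact (add_sub_cancel _ _).symm
  · obtain ⟨V, hVZ, hzV, hm⟩ := h₃.2 m (fun l => secMap h𝔛.1 S.g W (b l)) (fun _ => trivial) Z hZ c (by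
      have h1 := congrArg (secMap h𝔛.1 S.g Z) hc
      simpa only [map_sum, map_smul, secMap_res, map_zero] using h1) z hz
    obtain ⟨n, d, r, hr, hd⟩ := exists_of_mem_span (hVZ.trans hZ) hm
    choose α hα using fun j => exists_lift h𝔛 hS (∑ l, r j l • b l) (by
      rw [map_sum]
      simp only [map_smul]
      exact hr j)
    have h0 : ∑ j, d j • CohPres.resF h𝔛.1 S.X₁ (hVZ.trans hZ) (α j) = 0 := by
      refine CohCons.secMap_injective S.f V ?_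
      simp only [map_sum, map_smul, secMap_res, hα, map_zero]
      refine Eq.trans ?_ ((congrArg (CohPres.resF h𝔛.1 S.X₂ hVZ) hc).trans (map_zero _))
      rw [sum_res_res]
      refine Eq.trans ?_ (Finset.sum_congr rfl fun l _ => by rw [← hd l] :
        ∑ l, (∑ j, d j * CohPres.resA h𝔛.1 (hVZ.trans hZ) (r j l)) •
          CohPres.resF h𝔛.1 S.X₂ (hVZ.trans hZ) (b l) = _)
      rw [sum_smul_expand]
      simp only [map_sum]
    obtain ⟨U, hUV, hzU, hmU⟩ := h₁.2 n α (fun _ => trivial) V (hVZ.trans hZ) d h0 z hzV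
    obtain ⟨m', e, w, hw, he⟩ := exists_of_mem_span (hUV.trans (hVZ.trans hZ)) hmU
    refine ⟨U, hUV.trans hVZ, hzU, mem_span_of_eq _ e (fun q l => ∑ j, w q j * r j l)
      (fun q => ?_) fun l => ?_⟩
    · have hexp : ∑ l, (∑ j, w q j * r j l) • b l = ∑ j, w q j • ∑ l, r j l • b l := by
        simp only [Finset.sum_smul, mul_smul, Finset.smul_sum]
        exact Finset.sum_comm
      show ∑ l, (∑ j, w q j * r j l) • b l = 0
      rw [hexp]
      simp only [← hα, ← map_smul, ← map_sum]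
      rw [show ∑ j, w q j • α j = 0 from hw q, map_zero]
    · show CohPres.resA h𝔛.1 (hUV.trans hVZ) (c l) = _
      rw [← Groth.Agent.H22.IndColim.resA_resA hVZ hUV, show CohPres.resA h𝔛.1 hVZ (c l) = _ from hd l,
        map_sum]
      simp only [map_mul, Groth.Agent.H22.IndColim.resA_resA, map_sum, Finset.mul_sum]
      rw [Finset.sum_comm]
      refine Finset.sum_congr rfl fun j _ => ?_
      rw [show CohPres.resA h𝔛.1 hUV (d j) = _ from he j, Finset.sum_mul]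
      exact Finset.sum_congr rfl fun q _ => mul_assoc _ _ _

include hS in
/-- Extensions of quasi-coherent modules are quasi-coherent. -/
theorem isQuasicoherent_ext [SheafOfModules.IsQuasicoherent.{u} S.X₁]
    [SheafOfModules.IsQuasicoherent.{u} S.X₃] : SheafOfModules.IsQuasicoherent.{u} S.X₂ := by
  refine Lib.FSchInd28.Span.isQuasicoherent_of_span _ fun x => ?_
  obtain ⟨W₀, hx₀, ⟨p⟩⟩ := QcFT.exists_presentation h𝔛 (G := S.X₁) x
  obtain ⟨W₁, hx₁, ⟨q⟩⟩ := QcFT.exists_presentation h𝔛 (G := S.X₃) x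
  obtain ⟨W, hW, hxW, hle⟩ := Opens.isBasis_iff_nbhd.1 (CohPres.isBasis_affine (𝔛.X 0))
    (U := W₀ ⊓ W₁) (x := x) ⟨hx₀, hx₁⟩
  have hg := good_ext h𝔛 hS (surjective_of_presentation h𝔛 hS p hW (hle.trans inf_le_left))
    (good_of_presentation h𝔛 p hW (hle.trans inf_le_left))
    (good_of_presentation h𝔛 q hW (hle.trans inf_le_right))
  exact ⟨W, hxW, TorsQcoh.nonempty_presentation h𝔛 (𝟙 S.X₂) ⊤ (fun x _ => ⟨x, rfl⟩) (fun _ _ => True)
    (fun _ _ => trivial) hg.1 hg.2⟩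

/-- The middle term of a five-term exact sequence of quasi-coherent modules. -/
theorem exact_five (S : ComposableArrows (FSch.ModF 𝔛 h𝔛.1) 4) (hS : S.Exact)
    (h₀ : SheafOfModules.IsQuasicoherent.{u} (S.obj 0)) (h₁ : SheafOfModules.IsQuasicoherent.{u} (S.obj 1))
    (h₃ : SheafOfModules.IsQuasicoherent.{u} (S.obj 3)) (h₄ : SheafOfModules.IsQuasicoherent.{u} (S.obj 4)) :
    SheafOfModules.IsQuasicoherent.{u} (S.obj 2) := by
  let s₁ := S.sc' hS.toIsComplex 0 1 2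
  let s₂ := S.sc' hS.toIsComplex 1 2 3
  let s₃ := S.sc' hS.toIsComplex 2 3 4
  have e₁ : s₁.Exact := hS.exact' 0 1 2
  have e₂ : s₂.Exact := hS.exact' 1 2 3
  have e₃ : s₃.Exact := hS.exact' 2 3 4
  let f : cokernel s₁.f ⟶ s₂.X₂ := cokernel.desc s₁.f s₁.g s₁.zero
  let g : s₂.X₂ ⟶ kernel s₃.g := kernel.lift s₃.g s₃.f s₃.zero
  haveI : Mono f := e₁.mono_cokernelDesc
  haveI : Epi g := e₃.epi_kernelLift
  have w : f ≫ g = 0 := coequalizer.hom_ext (equalizer.hom_ext (by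
    simp only [Category.assoc, comp_zero, zero_comp]
    rw [cokernel.π_desc_assoc, kernel.lift_ι]
    exact s₂.zero))
  let T : ShortComplex (FSch.ModF 𝔛 h𝔛.1) := ShortComplex.mk f g w
  let η : s₂ ⟶ ShortComplex.mk f (g ≫ kernel.ι s₃.g) (by rw [← Category.assoc, w, zero_comp]) :=
    { τ₁ := cokernel.π s₁.f
      τ₂ := 𝟙 _
      τ₃ := 𝟙 _
      comm₁₂ := (cokernel.π_desc _ _ _).trans (Category.comp_id _).symm
      comm₂₃ := (Category.id_comp _).trans ((kernel.lift_ι _ _ _).trans (Category.comp_id _).symm) }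
  haveI : Epi η.τ₁ := inferInstanceAs (Epi (cokernel.π s₁.f))
  haveI : IsIso η.τ₂ := inferInstanceAs (IsIso (𝟙 s₂.X₂))
  haveI : Mono η.τ₃ := inferInstanceAs (Mono (𝟙 s₂.X₃))
  have e₄ := (ShortComplex.exact_iff_of_epi_of_isIso_of_mono η).1 e₂
  let θ : T ⟶ ShortComplex.mk f (g ≫ kernel.ι s₃.g) (by rw [← Category.assoc, w, zero_comp]) :=
    { τ₁ := 𝟙 _
      τ₂ := 𝟙 _
      τ₃ := kernel.ι s₃.g
      comm₁₂ := (Category.id_comp _).trans (Category.comp_id _).symm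
      comm₂₃ := Category.id_comp _ }
  haveI : Epi θ.τ₁ := inferInstanceAs (Epi (𝟙 T.X₁))
  haveI : IsIso θ.τ₂ := inferInstanceAs (IsIso (𝟙 T.X₂))
  haveI : Mono θ.τ₃ := inferInstanceAs (Mono (kernel.ι s₃.g))
  have e₅ : T.Exact := (ShortComplex.exact_iff_of_epi_of_isIso_of_mono θ).2 e₄
  haveI : SheafOfModules.IsQuasicoherent.{u} T.X₁ := by
    haveI : SheafOfModules.IsQuasicoherent.{u} s₁.X₁ := h₀
    haveI : SheafOfModules.IsQuasicoherent.{u} s₁.X₂ := h₁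
    exact (main h𝔛 s₁.f).2.2
  haveI : SheafOfModules.IsQuasicoherent.{u} T.X₃ := by
    haveI : SheafOfModules.IsQuasicoherent.{u} s₃.X₂ := h₃
    haveI : SheafOfModules.IsQuasicoherent.{u} s₃.X₃ := h₄
    exact (main h𝔛 s₃.g).1
  exact isQuasicoherent_ext h𝔛 (S := T) { exact := e₅, mono_f := ‹_›, epi_g := ‹_› }

end Groth.Agent.H54.FSchQc
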