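import Groth.Agent.H30.FSch.TorsQcoh

/-!
# Gluing sections modulo a finitely generated module of relations on affine formal schemes
-/

set_option autoImplicit false
set_option linter.style.haveILetI false

universe u

open CategoryTheory CategoryTheory.Limits AlgebraicGeometry TopologicalSpace Opposite
open Groth.Agent.Lib.QCoh.Localizing
open Groth.Agent.H30 Groth.Agent.H30.RealLimSec

namespace Groth.Agent.H54.FSchQc

/-- Gluing vectors of functions modulo a span on an affine open of a scheme. -/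
theorem sch_glue {X : Scheme.{u}} {U : X.Opens} (hU : IsAffineOpen U) {n m : ℕ}
    (r : Fin m → Fin n → Γ(X, U)) {ι : Type*} [Finite ι] (V : ι → X.Opens) (hV : ∀ α, IsAffineOpen (V α))
    (hle : ∀ α, V α ≤ U) (hcov : ∀ x ∈ U, ∃ α, x ∈ V α) (y : ∀ α, Fin n → Γ(X, V α))
    (hy : ∀ α β, ∀ x ∈ V α ⊓ V β, ∃ (O : X.Opens) (hα : O ≤ V α) (hβ : O ≤ V β) (_ : x ∈ O)
      (d : Fin m → Γ(X, O)),
        ∀ i, resR hα (y α i) - resR hβ (y β i) = ∑ j, d j * resR (hα.trans (hle α)) (r j i)) :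
    ∃ Y : Fin n → Γ(X, U), ∀ α, ∃ d : Fin m → Γ(X, V α),
      ∀ i, y α i - resR (hle α) (Y i) = ∑ j, d j * resR (hle α) (r j i) := by
  classical
  let P : Ideal Γ(X, U) :=
    { carrier := {a | ∃ Y : Fin n → Γ(X, U), ∀ α, ∃ d : Fin m → Γ(X, V α),
        ∀ i, resR (hle α) a * y α i - resR (hle α) (Y i) = ∑ j, d j * resR (hle α) (r j i)}
      zero_mem' := ⟨0, fun α => ⟨0, fun i => by simp⟩⟩
      add_mem' := by
        rintro a b ⟨Ya, ha⟩ ⟨Yb, hb⟩
        refine ⟨Ya + Yb, fun α => ?_⟩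
        obtain ⟨d, hd⟩ := ha α
        obtain ⟨d', hd'⟩ := hb α
        refine ⟨d + d', fun i => ?_⟩
        simp only [Pi.add_apply, map_add, add_mul, Finset.sum_add_distrib, ← hd i, ← hd' i]
        ring
      smul_mem' := by
        rintro c a ⟨Ya, ha⟩
        refine ⟨fun i => c * Ya i, fun α => ?_⟩
        obtain ⟨d, hd⟩ := ha α
        refine ⟨fun j => resR (hle α) c * d j, fun i => ?_⟩
        simp only [smul_eq_mul, map_mul, mul_assoc, ← Finset.mul_sum, ← hd i]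
        ring }
  have hP : P = ⊤ := by
    refine Groth.Agent.Lib.CohBasics.Affine.ideal_eq_top hU P fun x hx => ?_
    obtain ⟨β, hxβ⟩ := hcov x hx
    obtain ⟨g, hgV, hxg⟩ := hU.exists_basicOpen_le (⟨x, hxβ⟩ : V β) hx
    obtain ⟨K, a, ha⟩ := SchPres.exists_clear hU g (fun i => resR hgV (y β i))
    have hc : ∀ α, ∃ (N : ℕ) (d : Fin m → Γ(X, V α)), ∀ i,
        resR (hle α) g ^ N * (resR (hle α) g ^ K * y α i - resR (hle α) (a i)) =
          ∑ j, d j * resR (hle α) (r j i) := by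
      intro α
      set gα := resR (hle α) g with hgα
      have hD : X.basicOpen gα = V α ⊓ X.basicOpen g := Scheme.basicOpen_res X g (homOfLE (hle α)).op
      have hDg : X.basicOpen gα ≤ X.basicOpen g := hD.le.trans inf_le_right
      let c : Fin n → Γ(X, V α) := fun i => gα ^ K * y α i - resR (hle α) (a i)
      obtain ⟨d, hd⟩ := SchPres.exists_coeff_of_locally ((hV α).basicOpen gα)
        (fun j i => resR ((X.basicOpen_le gα).trans (hle α)) (r j i))
        (fun i => resR (X.basicOpen_le gα) (c i)) fun z hz => by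
          have hz' : z ∈ V α ⊓ V β := ⟨X.basicOpen_le gα hz, hgV (hDg hz)⟩
          obtain ⟨O, hα, hβ, hzO, d, hd⟩ := hy α β z hz'
          refine ⟨X.basicOpen gα ⊓ O, inf_le_left, ⟨hz, hzO⟩,
            fun j => resR ((inf_le_right : X.basicOpen gα ⊓ O ≤ O).trans (hα.trans (hle α))) g ^ K *
              resR (inf_le_right : X.basicOpen gα ⊓ O ≤ O) (d j), fun i => ?_⟩
          have h1 := congrArg (resR (inf_le_right : X.basicOpen gα ⊓ O ≤ O)) (hd i)
          have h2 := congrArg (resR ((inf_le_left : X.basicOpen gα ⊓ O ≤ X.basicOpen gα).trans hDg)) (ha i)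
          simp only [map_sub, map_sum, map_mul, map_pow, resR_resR] at h1 h2
          simp only [c, gα, map_sub, map_mul, map_pow, resR_resR, h2, mul_assoc, ← Finset.mul_sum, ← h1,
            ← mul_sub]
      obtain ⟨K', a', ha'⟩ := SchPres.exists_clear (hV α) gα d
      have hz : ∀ i, ∃ N : ℕ, gα ^ N * (gα ^ K' * c i) = gα ^ N * ∑ j, a' j * resR (hle α) (r j i) := by
        intro i
        letI : Algebra Γ(X, V α) Γ(X, X.basicOpen gα) := (resR (X.basicOpen_le gα)).toAlgebra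
        haveI := (hV α).isLocalization_basicOpen gα
        obtain ⟨⟨_, N, rfl⟩, hN⟩ := (IsLocalization.eq_iff_exists (Submonoid.powers gα)
          Γ(X, X.basicOpen gα)).1 (show algebraMap Γ(X, V α) Γ(X, X.basicOpen gα) (gα ^ K' * c i) =
            algebraMap Γ(X, V α) Γ(X, X.basicOpen gα) (∑ j, a' j * resR (hle α) (r j i)) by
          show resR (X.basicOpen_le gα) (gα ^ K' * c i) =
            resR (X.basicOpen_le gα) (∑ j, a' j * resR (hle α) (r j i))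
          simp only [map_mul, map_pow, map_sum, ha', mul_assoc, ← Finset.mul_sum, hd i, resR_resR])
        exact ⟨N, hN⟩
      choose N hN using hz
      refine ⟨(∑ i, N i) + K', fun j => gα ^ (∑ i, N i) * a' j, fun i => ?_⟩
      obtain ⟨q, hq⟩ := Nat.exists_eq_add_of_le
        (Finset.single_le_sum (fun j _ => Nat.zero_le (N j)) (Finset.mem_univ i))
      simp only [mul_assoc, ← Finset.mul_sum]
      rw [pow_add, mul_assoc, hq, pow_add, mul_comm (gα ^ N i), mul_assoc, mul_assoc, hN i]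
    choose N d hd using hc
    haveI := Fintype.ofFinite ι
    refine ⟨g ^ ((∑ α, N α) + 1) * g ^ K, ⟨fun i => g ^ ((∑ α, N α) + 1) * a i, fun α => ?_⟩, ?_⟩
    · obtain ⟨q, hq⟩ := Nat.exists_eq_add_of_le
        ((Finset.single_le_sum (fun j _ => Nat.zero_le (N j)) (Finset.mem_univ α)).trans (Nat.le_succ _))
      refine ⟨fun j => resR (hle α) g ^ q * d α j, fun i => ?_⟩
      simp only [mul_assoc, ← Finset.mul_sum, ← hd α i]
      have hq' : (∑ α, N α) + 1 = N α + q := hq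
      simp only [map_mul, map_pow, hq', pow_add]
      ring
    · rw [← pow_add]
      exact (X.mem_basicOpen _ x hx).mpr
        (by rw [map_pow]; exact ((X.mem_basicOpen g x hx).mp hxg).pow _)
  obtain ⟨Y, hY⟩ := show (1 : Γ(X, U)) ∈ P by rw [hP]; trivial
  refine ⟨Y, fun α => ?_⟩
  obtain ⟨d, hd⟩ := hY α
  exact ⟨d, fun i => by simpa using hd i⟩

variable {𝔛 : FSch.Sys.{u}} (h𝔛 : 𝔛.IsLocNoethFormal)

/-- Membership in a span from membership at every level. -/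
theorem mem_span_of_levels {W : (𝔛.X 0).Opens} (hW : IsAffineOpen W) {n m : ℕ}
    (r : Fin m → Fin n → Levels.A 𝔛 h𝔛.1 W) (c : Fin n → Levels.A 𝔛 h𝔛.1 W)
    (hc : ∀ t, ∃ d : Fin m → Levels.B 𝔛 h𝔛.1 t W,
      ∀ i, Levels.proj 𝔛 h𝔛.1 t W (c i) = ∑ j, d j * Levels.proj 𝔛 h𝔛.1 t W (r j i)) :
    ∃ d : Fin m → Levels.A 𝔛 h𝔛.1 W, ∀ i, c i = ∑ j, d j * r j i := by
  haveI := (Levels.adic h𝔛 hW).1
  haveI := Levels.isNoetherianRing_A h𝔛 hW
  let S : Submodule (Levels.A 𝔛 h𝔛.1 W) (Fin n → Levels.A 𝔛 h𝔛.1 W) :=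
    LinearMap.range (Fintype.linearCombination _ r)
  haveI : IsHausdorff (Levels.J (h := h𝔛.1) W) ((Fin n → Levels.A 𝔛 h𝔛.1 W) ⧸ S) :=
    IsHausdorff.of_le_jacobson _ _ (IsAdicComplete.le_jacobson_bot _)
  have hS : S.mkQ c = 0 := by
    refine IsHausdorff.haus ‹_› _ fun t => ?_
    obtain ⟨d, hd⟩ := hc t
    choose D hD using fun j => ((Levels.adic h𝔛 hW).2.1 t).1 (d j)
    rw [SModEq.sub_mem, sub_zero]
    have hk : ∀ i, c i - ∑ j, D j * r j i ∈ Levels.J (h := h𝔛.1) W ^ t := fun i => by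
      refine Ideal.pow_le_pow_right (Nat.le_succ t) ?_
      rw [← ((Levels.adic h𝔛 hW).2.1 t).2, RingHom.mem_ker, map_sub, map_sum, sub_eq_zero]
      simp only [map_mul, hD]
      exact hd i
    have h2 := Submodule.mem_map_of_mem (f := S.mkQ)
      (QcFT.mem_smul_top _ (fun i => c i - ∑ j, D j * r j i) hk)
    rw [Submodule.map_smul'', Submodule.map_top, Submodule.range_mkQ] at h2
    convert h2 using 1
    rw [eq_comm, ← sub_eq_zero, ← map_sub, Submodule.mkQ_apply, Submodule.Quotient.mk_eq_zero]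
    exact ⟨-D, funext fun i => by simp [Fintype.linearCombination_apply]⟩
  rw [Submodule.mkQ_apply, Submodule.Quotient.mk_eq_zero] at hS
  obtain ⟨d, hd⟩ := hS
  exact ⟨d, fun i => by simp [← hd, Fintype.linearCombination_apply]⟩

/-- Gluing vectors of functions modulo a span on an affine open of a formal scheme. -/
theorem glue {W : (𝔛.X 0).Opens} (hW : IsAffineOpen W) {n m : ℕ}
    (r : Fin m → Fin n → Levels.A 𝔛 h𝔛.1 W) {ι : Type*} [Finite ι] (V : ι → (𝔛.X 0).Opens)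
    (hV : ∀ α, IsAffineOpen (V α)) (hle : ∀ α, V α ≤ W) (hcov : ∀ x ∈ W, ∃ α, x ∈ V α)
    (y : ∀ α, Fin n → Levels.A 𝔛 h𝔛.1 (V α))
    (hy : ∀ α β, ∀ x ∈ V α ⊓ V β, ∃ (O : (𝔛.X 0).Opens) (hα : O ≤ V α) (hβ : O ≤ V β) (_ : x ∈ O)
      (d : Fin m → Levels.A 𝔛 h𝔛.1 O),
        ∀ i, CohPres.resA h𝔛.1 hα (y α i) - CohPres.resA h𝔛.1 hβ (y β i) =
          ∑ j, d j * CohPres.resA h𝔛.1 (hα.trans (hle α)) (r j i)) :
    ∃ Y : Fin n → Levels.A 𝔛 h𝔛.1 W, ∀ α, ∃ d : Fin m → Levels.A 𝔛 h𝔛.1 (V α),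
      ∀ i, y α i - CohPres.resA h𝔛.1 (hle α) (Y i) = ∑ j, d j * CohPres.resA h𝔛.1 (hle α) (r j i) := by
  classical
  have hlev : ∀ t, ∃ L : Fin n → Levels.A 𝔛 h𝔛.1 W, ∀ α, ∃ d : Fin m → Levels.B 𝔛 h𝔛.1 t (V α),
      ∀ i, Levels.proj 𝔛 h𝔛.1 t (V α) (y α i - CohPres.resA h𝔛.1 (hle α) (L i)) =
        ∑ j, d j * Levels.proj 𝔛 h𝔛.1 t (V α) (CohPres.resA h𝔛.1 (hle α) (r j i)) := by
    intro t
    obtain ⟨Y, hY⟩ := sch_glue (OshBasic.isAffineOpen_lvU 𝔛 h𝔛.1 t hW)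
      (fun j i => Levels.proj 𝔛 h𝔛.1 t W (r j i)) (fun α => 𝔛.lvU h𝔛.1 t (V α))
      (fun α => OshBasic.isAffineOpen_lvU 𝔛 h𝔛.1 t (hV α)) (fun α => CohPres.lvU_mono h𝔛.1 t (hle α))
      (fun w hw => hcov (𝔛.gInv h𝔛.1 t w) hw) (fun α i => Levels.proj 𝔛 h𝔛.1 t (V α) (y α i))
      fun α β w hw => by
        obtain ⟨O, hα, hβ, hxO, d, hd⟩ := hy α β (𝔛.gInv h𝔛.1 t w) hw
        refine ⟨𝔛.lvU h𝔛.1 t O, CohPres.lvU_mono h𝔛.1 t hα, CohPres.lvU_mono h𝔛.1 t hβ, hxO,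
          fun j => Levels.proj 𝔛 h𝔛.1 t O (d j), fun i => ?_⟩
        have h1 := congrArg (Levels.proj 𝔛 h𝔛.1 t O).hom (hd i)
        simp only [map_sub, map_sum, map_mul, CohPres.proj_resA] at h1
        exact h1
    choose L hL using fun i => ((Levels.adic h𝔛 hW).2.1 t).1 (Y i)
    refine ⟨L, fun α => ?_⟩
    obtain ⟨d, hd⟩ := hY α
    refine ⟨d, fun i => ?_⟩
    simp only [map_sub, CohPres.proj_resA, hL]
    exact hd i
  choose L dL hL using hlev
  have hstep : ∀ t, ∃ δ : Fin m → Levels.A 𝔛 h𝔛.1 W,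
      ∀ i, Levels.proj 𝔛 h𝔛.1 t W (L (t + 1) i - L t i - ∑ j, δ j * r j i) = 0 := by
    intro t
    obtain ⟨d, hd⟩ := SchPres.exists_coeff_of_locally (OshBasic.isAffineOpen_lvU 𝔛 h𝔛.1 t hW)
      (fun j i => Levels.proj 𝔛 h𝔛.1 t W (r j i))
      (fun i => Levels.proj 𝔛 h𝔛.1 t W (L (t + 1) i - L t i)) fun w hw => by
        obtain ⟨α, hα⟩ := hcov (𝔛.gInv h𝔛.1 t w) hw
        refine ⟨𝔛.lvU h𝔛.1 t (V α), CohPres.lvU_mono h𝔛.1 t (hle α), hα,
          fun j => dL t α j - Levels.trans 𝔛 h𝔛.1 t (V α) (dL (t + 1) α j), fun i => ?_⟩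
        have h1 := congrArg (Levels.trans 𝔛 h𝔛.1 t (V α)).hom (hL (t + 1) α i)
        have h2 := hL t α i
        have hpt : ∀ a, Levels.trans 𝔛 h𝔛.1 t (V α) (Levels.proj 𝔛 h𝔛.1 (t + 1) (V α) a) =
            Levels.proj 𝔛 h𝔛.1 t (V α) a :=
          fun a => ConcreteCategory.congr_hom (Levels.proj_trans 𝔛 h𝔛.1 t (V α)) a
        simp only [map_sub, map_sum, map_mul] at h1 h2
        simp only [hpt] at h1
        simp only [CohPres.proj_resA] at h1 h2
        simp only [map_sub, sub_mul, Finset.sum_sub_distrib, ← h1, ← h2]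
        ring
    choose δ hδ using fun j => ((Levels.adic h𝔛 hW).2.1 t).1 (d j)
    refine ⟨δ, fun i => ?_⟩
    simp only [map_sub, map_sum, map_mul, hδ]
    rw [sub_eq_zero, ← map_sub]
    exact hd i
  choose δ hδ using hstep
  let C : ℕ → Fin m → Levels.A 𝔛 h𝔛.1 W := fun t j => ∑ s ∈ Finset.range t, δ s j
  let Z : ℕ → Fin n → Levels.A 𝔛 h𝔛.1 W := fun t i => L t i - ∑ j, C t j * r j i
  have hZ : ∀ t i, Levels.proj 𝔛 h𝔛.1 t W (Z (t + 1) i) = Levels.proj 𝔛 h𝔛.1 t W (Z t i) := by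
    intro t i
    rw [← sub_eq_zero, ← map_sub]
    refine Eq.trans (congrArg _ ?_) (hδ t i)
    simp only [Z, C, Finset.sum_range_succ, add_mul, Finset.sum_add_distrib]
    ring
  choose Y hY using fun i => Levels.exists_of_compatible (𝔛 := 𝔛) (h := h𝔛.1) (V := W)
    (fun t => Levels.proj 𝔛 h𝔛.1 t W (Z t i)) fun t =>
      (ConcreteCategory.congr_hom (Levels.proj_trans 𝔛 h𝔛.1 t W) (Z (t + 1) i)).trans (hZ t i)
  refine ⟨Y, fun α => mem_span_of_levels h𝔛 (hV α) _ _ fun t => ?_⟩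
  refine ⟨fun j => dL t α j + Levels.proj 𝔛 h𝔛.1 t (V α) (CohPres.resA h𝔛.1 (hle α) (C t j)), fun i => ?_⟩
  have h1 := hL t α i
  have h3 : Levels.proj 𝔛 h𝔛.1 t (V α) (CohPres.resA h𝔛.1 (hle α) (Y i)) =
      Levels.proj 𝔛 h𝔛.1 t (V α) (CohPres.resA h𝔛.1 (hle α) (Z t i)) :=
    (CohPres.proj_resA h𝔛.1 t (hle α) (Y i)).trans
      ((congrArg _ (hY i t)).trans (CohPres.proj_resA h𝔛.1 t (hle α) (Z t i)).symm)
  simp only [map_sub] at h1 ⊢
  rw [h3]
  simp only [Z, map_sub, map_sum, map_mul, add_mul, Finset.sum_add_distrib, ← h1]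
  ring

end Groth.Agent.H54.FSchQc
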