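import Groth.Agent.H54.FSchQc.Sums
import Groth.Agent.Lib.FPHom.SheafHom

/-!
# Internal hom out of a coherent module on a formal scheme
-/

set_option autoImplicit false
set_option linter.style.haveILetI false
set_option maxHeartbeats 1000000

universe u

open CategoryTheory CategoryTheory.Limits AlgebraicGeometry TopologicalSpace Opposite
open Groth.Agent.H30 Groth.Agent.H30.RealLimSec Groth.Agent.H22.IndColim
open Groth.Agent.Lib

namespace Groth.Agent.H54.FSchQc

section Free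

variable {C : Type u} [SmallCategory C] {J : GrothendieckTopology C} (O : Sheaf J CommRingCat.{u}) (U : C)

/-- Hom out of a finite free module on a localised site is a restricted finite sum. -/
theorem exists_free_iso (G : _root_.ModSite.Mod O) (I : Type u) [Finite I]
    [_root_.ModSite.HasSheafHom (SheafOfModules.free (R := _root_.ModSite.ringSh (O.over U)) I)] :
    ∃ (n : ℕ) (M : _root_.ModSite.Mod O) (p : Fin n → (M ⟶ G)) (q : Fin n → (G ⟶ M)),
      ∑ i, p i ≫ q i = 𝟙 M ∧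
      Nonempty ((_root_.ModSite.sheafHom (SheafOfModules.free (R := _root_.ModSite.ringSh (O.over U)) I)).obj
        ((_root_.ModSite.restr O U).obj G) ≅ (_root_.ModSite.restr O U).obj M) := by
  classical
  haveI := Fintype.ofFinite I
  haveI := FPHom.SheafHom.additive_sheafHom (O := O.over U)
  let σ : Fin (Fintype.card I) ≃ I := (Fintype.equivFin I).symm
  let R := _root_.ModSite.restr O U
  haveI : R.Additive := ExtZero.Restr.additive_restr U
  let F : I → _root_.ModSite.Mod (O.over U) := fun _ => _root_.ModSite.unit (O.over U)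
  haveI : _root_.ModSite.HasSheafHom (∐ F) := ‹_›
  haveI : _root_.ModSite.HasSheafHom (_root_.ModSite.unit (O.over U)) := ModTensor.ModSite.hasSheafHom _
  let GR := R.obj G
  let P : ∀ i, (∐ F) ⟶ _root_.ModSite.unit (O.over U) := fun i =>
    Sigma.desc (fun j => if j = i then 𝟙 (_root_.ModSite.unit (O.over U)) else 0)
  have hP : ∀ i j, Sigma.ι F j ≫ P i = if j = i then 𝟙 (_root_.ModSite.unit (O.over U)) else 0 :=
    fun i j => Sigma.ι_desc _ _
  have hid : ∑ k, P (σ k) ≫ Sigma.ι F (σ k) = 𝟙 (∐ F) := by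
    rw [σ.sum_comp fun i => P i ≫ Sigma.ι F i]
    refine Sigma.hom_ext _ _ fun j => ?_
    rw [Preadditive.comp_sum, Category.comp_id, Finset.sum_eq_single j]
    · simp [F, P]
    · intro i _ hij
      simp [F, P, Ne.symm hij]
    · simp
  let Gf : Fin (Fintype.card I) → _root_.ModSite.Mod O := fun _ => G
  haveI : HasFiniteBiproducts (_root_.ModSite.Mod O) := HasFiniteBiproducts.of_hasFiniteProducts
  haveI : HasBiproduct Gf := inferInstance
  refine ⟨Fintype.card I, ⨁ Gf, fun k => biproduct.π Gf k, fun k => biproduct.ι Gf k, biproduct.total, ⟨?_⟩⟩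
  let ν : GR ≅ (_root_.ModSite.sheafHom (_root_.ModSite.unit (O.over U))).obj GR :=
    FPHom.SheafHom.sheafHomUnitIso.app GR
  let a : ∀ k, (_root_.ModSite.sheafHom (∐ F)).obj GR ⟶ R.obj (Gf k) := fun k =>
    (FPHom.SheafHom.hm (Sigma.ι F (σ k))).app GR ≫ ν.inv
  let b : ∀ k, R.obj (Gf k) ⟶ (_root_.ModSite.sheafHom (∐ F)).obj GR := fun k =>
    ν.hom ≫ (FPHom.SheafHom.hm (P (σ k))).app GR
  have hab : ∑ k, a k ≫ b k = 𝟙 _ := by
    have h : ∑ k, FPHom.SheafHom.hm (Sigma.ι F (σ k)) ≫ FPHom.SheafHom.hm (P (σ k)) = 𝟙 _ := by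
      refine (Finset.sum_congr rfl fun i _ => (FPHom.SheafHom.hm_comp _ _).symm).trans ?_
      exact ((map_sum (FPHom.SheafHom.hmHom (∐ F) (∐ F)) _ _).symm.trans (congrArg _ hid)).trans
        (FPHom.SheafHom.hm_id _)
    have h2 : ∑ k, (FPHom.SheafHom.hm (Sigma.ι F (σ k))).app GR ≫ (FPHom.SheafHom.hm (P (σ k))).app GR = 𝟙 _ := by
      simpa using congrArg (fun t => NatTrans.app t GR) h
    refine Eq.trans (Finset.sum_congr rfl fun k _ => ?_) h2
    exact (Category.assoc _ _ _).trans (congrArg _ (ν.inv_hom_id_assoc _))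
  have hba1 : ∀ k, b k ≫ a k = 𝟙 _ := fun k => by
    show (ν.hom ≫ _) ≫ _ ≫ ν.inv = 𝟙 GR
    rw [Category.assoc, ← NatTrans.comp_app_assoc, ← FPHom.SheafHom.hm_comp, hP, if_pos rfl,
      FPHom.SheafHom.hm_id, NatTrans.id_app, Category.id_comp, ν.hom_inv_id]
  have hba0 : ∀ k l, k ≠ l → b k ≫ a l = 0 := fun k l h => by
    show (ν.hom ≫ _) ≫ _ ≫ ν.inv = (0 : GR ⟶ GR)
    rw [Category.assoc, ← NatTrans.comp_app_assoc, ← FPHom.SheafHom.hm_comp, hP,
      if_neg fun hh => h (σ.injective hh).symm,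
      show FPHom.SheafHom.hm (0 : _root_.ModSite.unit (O.over U) ⟶ _root_.ModSite.unit (O.over U)) = 0 from
        map_zero (FPHom.SheafHom.hmHom _ _)]
    simp
  refine
    { hom := ∑ k, a k ≫ R.map (biproduct.ι Gf k)
      inv := ∑ k, R.map (biproduct.π Gf k) ≫ b k
      hom_inv_id := ?_
      inv_hom_id := ?_ }
  · rw [Preadditive.sum_comp]
    refine Eq.trans (Finset.sum_congr rfl fun k _ => ?_) hab
    rw [Preadditive.comp_sum, Finset.sum_eq_single k]
    · rw [Category.assoc, ← R.map_comp_assoc, biproduct.ι_π_self, R.map_id, Category.id_comp]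
      try rfl
    · intro l _ hl
      rw [Category.assoc, ← R.map_comp_assoc, biproduct.ι_π_ne _ hl.symm, R.map_zero, zero_comp, comp_zero]
    · simp
  · rw [Preadditive.sum_comp]
    refine Eq.trans (Finset.sum_congr rfl fun k _ => ?_)
      ((R.map_sum _ _).symm.trans ((congrArg R.map (biproduct.total (f := Gf))).trans (R.map_id _)))
    rw [Preadditive.comp_sum, Finset.sum_eq_single k]
    · exact ((Category.assoc _ _ _).trans (congrArg (R.map (biproduct.π Gf k) ≫ ·)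
        ((Category.assoc _ _ _).symm.trans ((congrArg (· ≫ _) (hba1 k)).trans (Category.id_comp _))))).trans
        (R.map_comp _ _).symm
    · intro l _ hl
      exact (Category.assoc _ _ _).trans ((congrArg (R.map (biproduct.π Gf k) ≫ ·)
        ((Category.assoc _ _ _).symm.trans ((congrArg (· ≫ _) (hba0 k l (Ne.symm hl))).trans zero_comp))).trans
        comp_zero)
    · simp

/-- The kernel sequence of internal homs of a finite presentation. -/
theorem exists_hom_seq {F : _root_.ModSite.Mod O} (P : SheafOfModules.Presentation F) [P.IsFinite]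
    [_root_.ModSite.HasSheafHom F] [∀ M : _root_.ModSite.Mod O, _root_.ModSite.HasSheafHom M]
    (G : _root_.ModSite.Mod O) :
    ∃ (I I' : Type u) (_ : Finite I) (_ : Finite I')
      (a : (_root_.ModSite.sheafHom F).obj G ⟶
        (_root_.ModSite.sheafHom (SheafOfModules.free (R := _root_.ModSite.ringSh O) I)).obj G)
      (b : (_root_.ModSite.sheafHom (SheafOfModules.free (R := _root_.ModSite.ringSh O) I)).obj G ⟶
        (_root_.ModSite.sheafHom (SheafOfModules.free (R := _root_.ModSite.ringSh O) I')).obj G)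
      (w : a ≫ b = 0), Mono a ∧ (ShortComplex.mk a b w).Exact := by
  haveI : Finite P.relations.I := SheafOfModules.GeneratingSections.IsFiniteType.finite
  haveI : Finite P.generators.I := SheafOfModules.GeneratingSections.IsFiniteType.finite
  let g : SheafOfModules.free (R := _root_.ModSite.ringSh O) P.relations.I ⟶
      SheafOfModules.free P.generators.I :=
    (SheafOfModules.freeHomEquiv _).symm P.relations.s ≫ kernel.ι _
  let π : SheafOfModules.free P.generators.I ⟶ F := P.generators.π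
  have w : g ≫ π = 0 := by simp [g, π]
  haveI : Epi π := P.generators.epi
  exact ⟨P.generators.I, P.relations.I, inferInstance, inferInstance,
    (FPHom.SheafHom.hm π).app G, (FPHom.SheafHom.hm g).app G,
    by rw [← NatTrans.comp_app, FPHom.SheafHom.hm_comp_eq_zero g π w]; rfl,
    FPHom.SheafHom.mono_hm π G, FPHom.SheafHom.exact_hm g π w P.isColimit G⟩

end Free

variable {𝔛 : FSch.Sys.{u}} (h𝔛 : 𝔛.IsLocNoethFormal)

/-- Finite local generators from generation by a finitely generated module of sections. -/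
theorem exists_gen_of_genAt {M : FSch.ModF 𝔛 h𝔛.1} {W : (𝔛.X 0).Opens} {x : 𝔛.X 0} (hxW : x ∈ W)
    (hg : TorsQcoh.GenAt M (⊤ : Submodule (Levels.A 𝔛 h𝔛.1 W) (sec h𝔛.1 M W)) (fun _ _ => True))
    (hfg : (⊤ : Submodule (Levels.A 𝔛 h𝔛.1 W) (sec h𝔛.1 M W)).FG) :
    ∃ (W : (𝔛.X 0).Opens) (n : ℕ) (f : Fin n → M.val.obj (op W)), x ∈ W ∧
      ∀ (Z : (𝔛.X 0).Opens) (_ : Z ≤ W) (s : M.val.obj (op Z)), ∀ z ∈ Z,
        ∃ (V : (𝔛.X 0).Opens) (hVZ : V ≤ Z) (hVW : V ≤ W) (_ : z ∈ V)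
          (c : Fin n → (ModSite.ringSh (𝔛.Osh h𝔛.1)).obj.obj (op V)),
          PresSh.res M hVZ s = ∑ i, c i • PresSh.res M hVW (f i) := by
  obtain ⟨n, f, hf⟩ := Submodule.fg_iff_exists_fin_generating_family.1 hfg
  refine ⟨W, n, f, hxW, fun Z hZ s z hz => ?_⟩
  obtain ⟨V, hVZ, m, a, t, hzV, -, hst⟩ := hg Z hZ s trivial z hz
  choose b hb using fun i => (Submodule.mem_span_range_iff_exists_fun _).1
    (hf ▸ Submodule.mem_top : t i ∈ Submodule.span (Levels.A 𝔛 h𝔛.1 W) (Set.range f))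
  refine ⟨V, hVZ, hVZ.trans hZ, hzV,
    fun l => ∑ i, a i * CohPres.resA h𝔛.1 (hVZ.trans hZ) (b i l), hst.trans ?_⟩
  refine Eq.trans ?_ (sum_smul_expand (F := M) (hVZ.trans hZ) a b f).symm
  exact Finset.sum_congr rfl fun i _ => by rw [hb i]

/-- Finite sums of coherent modules are coherent. -/
theorem isCohF_sum {M G : FSch.ModF 𝔛 h𝔛.1} {n : ℕ} (p : Fin n → (M ⟶ G)) (q : Fin n → (G ⟶ M))
    (hpq : ∑ i, p i ≫ q i = 𝟙 M) (hG : FSch.IsCohF 𝔛 h𝔛.1 G) : FSch.IsCohF 𝔛 h𝔛.1 M := by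
  classical
  haveI : IsLocallyNoetherian (𝔛.X 0) := h𝔛.2.2 0
  haveI : SheafOfModules.IsQuasicoherent.{u} G := by
    haveI := hG
    infer_instance
  have hgood : ∀ x : 𝔛.X 0, ∃ W : (𝔛.X 0).Opens, x ∈ W ∧ IsAffineOpen W ∧ Good h𝔛 G W := fun x => by
    obtain ⟨W, hxW, hW, hg, -⟩ := exists_good h𝔛 (F := G) (G := G) x
    exact ⟨W, hxW, hW, hg⟩
  haveI : SheafOfModules.IsQuasicoherent.{u} M := by
    refine Lib.FSchInd28.Span.isQuasicoherent_of_span _ fun x => ?_
    obtain ⟨W, hxW, hW, hg⟩ := hgood x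
    have hMg := good_sum h𝔛 p q hpq hg
    exact ⟨W, hxW, TorsQcoh.nonempty_presentation h𝔛 (𝟙 M) ⊤ (fun x _ => ⟨x, rfl⟩) (fun _ _ => True)
      (fun _ _ => trivial) hMg.1 hMg.2⟩
  haveI : SheafOfModules.IsFiniteType (R := ModSite.ringSh (𝔛.Osh h𝔛.1)) M := by
    refine CohCons.isFiniteType_of_gen fun x => ?_
    obtain ⟨W, hxW, hW, hg⟩ := hgood x
    have hMg := good_sum h𝔛 p q hpq hg
    haveI := CohExact.finite_sec h𝔛 hG hW
    haveI : Module.Finite (Levels.A 𝔛 h𝔛.1 W) (sec h𝔛.1 M W) :=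
      Module.Finite.of_surjective (∑ i, (secMap h𝔛.1 (q i) W).comp (LinearMap.proj (φ := fun _ : Fin n => sec h𝔛.1 G W) i))
        fun y => ⟨fun i => secMap h𝔛.1 (p i) W y, by
          rw [LinearMap.sum_apply]
          exact (eq_sum_comp p q hpq W y).symm⟩
    exact exists_gen_of_genAt h𝔛 hxW hMg.1 Module.Finite.fg_top
  exact QcFT.isCohF h𝔛

/-- Internal hom out of a coherent module into a quasi-coherent one is quasi-coherent, and coherent if
the target is. -/
theorem sheafHom_qc (F G : FSch.ModF 𝔛 h𝔛.1) (hF : FSch.IsCohF 𝔛 h𝔛.1 F) [SheafOfModules.IsQuasicoherent.{u} G]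
    [_root_.ModSite.HasSheafHom F] :
    SheafOfModules.IsQuasicoherent.{u} ((_root_.ModSite.sheafHom F).obj G) ∧
      (FSch.IsCohF 𝔛 h𝔛.1 G → FSch.IsCohF 𝔛 h𝔛.1 ((_root_.ModSite.sheafHom F).obj G)) := by
  classical
  haveI := hF
  obtain ⟨qd, hqd⟩ := SheafOfModules.IsFinitePresentation.exists_quasicoherentData
    (R := _root_.ModSite.ringSh (𝔛.Osh h𝔛.1)) F
  haveI := hqd
  let N : FSch.ModF 𝔛 h𝔛.1 := (_root_.ModSite.sheafHom F).obj G
  have key : ∀ x : 𝔛.X 0, ∃ W : (𝔛.X 0).Opens, x ∈ W ∧ IsAffineOpen W ∧ Good h𝔛 N W ∧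
      (FSch.IsCohF 𝔛 h𝔛.1 G → (⊤ : Submodule (Levels.A 𝔛 h𝔛.1 W) (sec h𝔛.1 N W)).FG) := by
    intro x
    obtain ⟨i, hxi⟩ := Opens.mem_iSup.1 ((eq_top_iff.1 ((Opens.coversTop_iff _ _).mp qd.coversTop))
      (Opens.mem_top x))
    let W₀ : (𝔛.X 0).Opens := qd.X i
    let P := qd.presentation i
    haveI : P.IsFinite := hqd.isFinite_presentation i
    haveI : Finite P.relations.I := SheafOfModules.GeneratingSections.IsFiniteType.finite
    haveI : Finite P.generators.I := SheafOfModules.GeneratingSections.IsFiniteType.finite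
    let O := 𝔛.Osh h𝔛.1
    haveI : ∀ M : _root_.ModSite.Mod (O.over W₀), _root_.ModSite.HasSheafHom M := fun M =>
      ModTensor.ModSite.hasSheafHom M
    obtain ⟨I, I', hI, hI', a, b, w, ha, hex⟩ := @exists_hom_seq _ _ _ (O.over W₀)
      ((_root_.ModSite.restr O W₀).obj F) P ‹_› _ _ ((_root_.ModSite.restr O W₀).obj G)
    obtain ⟨n, Mn, pn, qn, hn, ⟨en⟩⟩ := exists_free_iso O W₀ G I
    obtain ⟨m, Mm, pm, qm, hm', ⟨em⟩⟩ := exists_free_iso O W₀ G I'
    let iso := (ExtZero.Restr.restrSheafHomIso W₀ F).app G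
    let ι₀ : SheafOfModules.over N W₀ ⟶ SheafOfModules.over Mn W₀ := iso.inv ≫ a ≫ en.hom
    let ψ : SheafOfModules.over Mn W₀ ⟶ SheafOfModules.over Mm W₀ := en.inv ≫ b ≫ em.hom
    have h1 : (en.hom ≫ en.inv ≫ b ≫ em.hom) = b ≫ em.hom := en.hom_inv_id_assoc _
    have h2 : (a ≫ b) ≫ em.hom = 0 := (congrArg (· ≫ em.hom) w).trans zero_comp
    have w₀ : ι₀ ≫ ψ = 0 :=
      ((Category.assoc _ _ _).trans (congrArg (iso.inv ≫ ·) ((Category.assoc _ _ _).trans
        ((congrArg (a ≫ ·) h1).trans ((Category.assoc _ _ _).symm.trans h2))))).trans comp_zero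
    haveI : Mono (a ≫ en.hom) := mono_comp _ _
    haveI : Mono ι₀ := mono_comp iso.inv (a ≫ en.hom)
    have hex₀ : (ShortComplex.mk ι₀ ψ w₀).Exact := by
      refine ShortComplex.exact_of_iso (ShortComplex.isoMk iso en em ?_ ?_) hex
      · exact (iso.hom_inv_id_assoc _).trans rfl
      · exact (en.hom_inv_id_assoc _).trans rfl
    obtain ⟨W, hW, hxW, hle⟩ := Opens.isBasis_iff_nbhd.1 (CohPres.isBasis_affine (𝔛.X 0))
      (U := W₀) (x := x) hxi
    obtain ⟨W₁, hxW₁, ⟨q⟩⟩ := QcFT.exists_presentation h𝔛 (G := G) x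
    obtain ⟨W', hW', hxW', hle'⟩ := Opens.isBasis_iff_nbhd.1 (CohPres.isBasis_affine (𝔛.X 0))
      (U := W ⊓ W₁) (x := x) ⟨hxW, hxW₁⟩
    have e : W' ≤ W₀ := (hle'.trans inf_le_left).trans hle
    have hG := good_of_presentation h𝔛 q hW' (hle'.trans inf_le_right)
    exact ⟨W', hxW', hW',
      good_over h𝔛 w₀ hex₀ e (good_sum h𝔛 pn qn hn hG) (good_sum h𝔛 pm qm hm' hG),
      fun hGc => fg_over h𝔛 hW' e (isCohF_sum h𝔛 pn qn hn hGc) ι₀⟩
  haveI hqc : SheafOfModules.IsQuasicoherent.{u} N := by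
    refine Lib.FSchInd28.Span.isQuasicoherent_of_span _ fun x => ?_
    obtain ⟨W, hxW, hW, hg, -⟩ := key x
    exact ⟨W, hxW, TorsQcoh.nonempty_presentation h𝔛 (𝟙 N) ⊤ (fun x _ => ⟨x, rfl⟩) (fun _ _ => True)
      (fun _ _ => trivial) hg.1 hg.2⟩
  refine ⟨hqc, fun hGc => ?_⟩
  haveI : SheafOfModules.IsFiniteType (R := _root_.ModSite.ringSh (𝔛.Osh h𝔛.1)) N := by
    refine CohCons.isFiniteType_of_gen fun x => ?_
    obtain ⟨W, hxW, hW, hg, hfg⟩ := key x
    exact exists_gen_of_genAt h𝔛 hxW hg.1 (hfg hGc)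
  exact QcFT.isCohF h𝔛 (G := N)

end Groth.Agent.H54.FSchQc
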