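import Groth.Agent.H54.FSchQc.Glue
import Groth.Agent.H22.IndColim.Affine

/-!
# Kernels, images and cokernels of maps of quasi-coherent modules on formal schemes
-/

set_option autoImplicit false
set_option linter.style.haveILetI false
set_option maxHeartbeats 1000000

universe u

open CategoryTheory CategoryTheory.Limits AlgebraicGeometry TopologicalSpace Opposite
open Groth.Agent.H30 Groth.Agent.H30.RealLimSec Groth.Agent.H22.IndColim

namespace Groth.Agent.H54.FSchQc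

variable {𝔛 : FSch.Sys.{u}} (h𝔛 : 𝔛.IsLocNoethFormal)

/-- Coordinatewise criterion for a glued combination. -/
theorem eq_sub_of_glue {A A' I : Type*} [CommRing A] [CommRing A'] (f : A →+* A') {n m : ℕ} (σ : Fin n → I)
    (hσ : Function.Injective σ) (Y : Fin n → A) (c : I →₀ A') (d : Fin m → A') (B : Fin m → I →₀ A)
    (R : (I →₀ A) → (I →₀ A')) (hR : ∀ b k, R b k = f (b k))
    (h : ∀ i, c (σ i) - f (Y i) = ∑ j, d j * f (B j (σ i)))
    (h0 : ∀ k ∉ Set.range σ, c k = 0 ∧ ∀ j, B j k = 0) :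
    R (∑ i, Finsupp.single (σ i) (Y i)) = c - ∑ j, d j • R (B j) := by
  classical
  refine Finsupp.ext fun k => ?_
  simp only [hR, Finsupp.sub_apply, Finsupp.finsetSum_apply, Finsupp.smul_apply, smul_eq_mul,
    Finsupp.single_apply]
  by_cases hk : k ∈ Set.range σ
  · obtain ⟨i, rfl⟩ := hk
    simp [hσ.eq_iff, ← h i]
  · obtain ⟨hc, hB⟩ := h0 k hk
    rw [Finset.sum_eq_zero fun i _ => if_neg fun hh => hk ⟨i, hh⟩, hc]
    simp [hB]

/-- Sections over a small affine open are combinations of the generators of a presentation. -/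
theorem exists_comb {G : FSch.ModF 𝔛 h𝔛.1} {W₀ : (𝔛.X 0).Opens}
    (p : (SheafOfModules.over G W₀).Presentation) {W : (𝔛.X 0).Opens} (hW : IsAffineOpen W) (e : W ≤ W₀)
    (b : sec h𝔛.1 G W) : ∃ v, QcFT.comb h𝔛 p.generators e v = b := by
  classical
  haveI : IsLocallyNoetherian (𝔛.X 0) := h𝔛.2.2 0
  have hloc : ∀ z : W, ∃ (V : (𝔛.X 0).Opens) (eV : V ≤ W) (_ : IsAffineOpen V) (_ : z.1 ∈ V)
      (c : p.generators.I →₀ Levels.A 𝔛 h𝔛.1 V),
      QcFT.comb h𝔛 p.generators (eV.trans e) c = CohPres.resF h𝔛.1 G eV b := by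
    intro z
    obtain ⟨V, e', hzV, c, hc⟩ := QcFT.exists_local_comb h𝔛 p.generators e b z.2
    obtain ⟨V', hV', hzV', hle⟩ := Opens.isBasis_iff_nbhd.1 (CohPres.isBasis_affine (𝔛.X 0)) hzV
    refine ⟨V', hle.trans e', hV', hzV', QcFT.rA h𝔛 hle c, ?_⟩
    rw [← QcFT.comb_res h𝔛 p.generators (e'.trans e) hle, hc, Groth.Agent.H22.IndColim.resF_resF]
  choose V eV hV hzV c hc using hloc
  obtain ⟨T, hT⟩ := hW.isCompact.elim_finite_subcover (fun z : W => (V z : Set (𝔛.X 0)))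
    (fun z => (V z).2) fun z hz => Set.mem_iUnion.2 ⟨⟨z, hz⟩, hzV ⟨z, hz⟩⟩
  obtain ⟨K, B, hB, hex⟩ := QcFT.exists_local_exact h𝔛 p hW e
  have hpair : ∀ q : T × T, ∃ U : Finset K, ∀ z ∈ V q.1.1 ⊓ V q.2.1, ∃ (O : (𝔛.X 0).Opens)
      (eO : O ≤ V q.1.1 ⊓ V q.2.1) (_ : z ∈ O) (d : K →₀ Levels.A 𝔛 h𝔛.1 O), d.support ⊆ U ∧
        QcFT.rA h𝔛 (eO.trans inf_le_left) (c q.1.1) - QcFT.rA h𝔛 (eO.trans inf_le_right) (c q.2.1) =
          d.sum fun j a => a • QcFT.rA h𝔛 ((eO.trans inf_le_left).trans (eV q.1.1)) (B j) := by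
    intro q
    let O₀ := V q.1.1 ⊓ V q.2.1
    have eO₀ : O₀ ≤ W := inf_le_left.trans (eV q.1.1)
    let v := QcFT.rA h𝔛 (inf_le_left : O₀ ≤ V q.1.1) (c q.1.1) -
      QcFT.rA h𝔛 (inf_le_right : O₀ ≤ V q.2.1) (c q.2.1)
    have hv : QcFT.comb h𝔛 p.generators (eO₀.trans e) v = 0 := by
      rw [map_sub, ← QcFT.comb_res h𝔛 p.generators ((eV q.1.1).trans e),
        ← QcFT.comb_res h𝔛 p.generators ((eV q.2.1).trans e), hc, hc,
        Groth.Agent.H22.IndColim.resF_resF, Groth.Agent.H22.IndColim.resF_resF, sub_self]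
    choose O eO hzO d hd using fun z : O₀ => hex O₀ eO₀ v hv z.1 z.2
    obtain ⟨S, hS⟩ := (QuasiSeparatedSpace.inter_isCompact _ _ (V q.1.1).2 (hV q.1.1).isCompact
      (V q.2.1).2 (hV q.2.1).isCompact).elim_finite_subcover (fun z : O₀ => (O z : Set (𝔛.X 0)))
      (fun z => (O z).2) fun z hz => Set.mem_iUnion.2 ⟨⟨z, hz⟩, hzO ⟨z, hz⟩⟩
    refine ⟨S.biUnion fun z => (d z).support, fun z hz => ?_⟩
    obtain ⟨w, hw, hzw⟩ := Set.mem_iUnion₂.1 (hS hz)
    refine ⟨O w, eO w, hzw, d w, fun j hj => Finset.mem_biUnion.2 ⟨w, hw, hj⟩, ?_⟩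
    refine Eq.trans ?_ (hd w)
    ext i
    simp only [v, QcFT.rA_apply, Finsupp.sub_apply, map_sub,
      Groth.Agent.H22.IndColim.resA_resA]
  choose U hU using hpair
  let U' : Finset K := Finset.univ.biUnion U
  let I' : Finset p.generators.I :=
    (Finset.univ.biUnion fun α : T => (c α.1).support) ∪ U'.biUnion fun j => (B j).support
  let σ : Fin I'.card ≃ I' := I'.equivFin.symm
  let τ : Fin U'.card ≃ U' := U'.equivFin.symm
  have hI1 : ∀ (α : T) (k : p.generators.I), k ∉ I' → c α.1 k = 0 := fun α k hk =>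
    Finsupp.notMem_support_iff.1 fun hh =>
      hk (Finset.mem_union_left _ (Finset.mem_biUnion.2 ⟨α, Finset.mem_univ _, hh⟩))
  have hI2 : ∀ (j : K), j ∈ U' → ∀ k : p.generators.I, k ∉ I' → B j k = 0 := fun j hj k hk =>
    Finsupp.notMem_support_iff.1 fun hh =>
      hk (Finset.mem_union_right _ (Finset.mem_biUnion.2 ⟨j, hj, hh⟩))
  have hU' : ∀ (q : T × T) (j : K), j ∈ U q → j ∈ U' := fun q j hj =>
    Finset.mem_biUnion.2 ⟨q, Finset.mem_univ _, hj⟩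
  clear_value σ τ I' U'
  obtain ⟨Y, hY⟩ := glue h𝔛 hW (fun j i => B (τ j).1 (σ i).1) (fun α : T => V α.1) (fun α => hV α.1)
    (fun α => eV α.1)
    (fun x hx => by
      obtain ⟨w, hw, hxw⟩ := Set.mem_iUnion₂.1 (hT hx)
      exact ⟨⟨w, hw⟩, hxw⟩)
    (fun α i => c α.1 (σ i).1) fun α β x hx => by
      obtain ⟨O, eO, hxO, d, hsup, hd⟩ := hU (α, β) x hx
      refine ⟨O, eO.trans inf_le_left, eO.trans inf_le_right, hxO, fun j => d (τ j).1, fun i => ?_⟩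
      have h1 := congrArg (fun f : p.generators.I →₀ Levels.A 𝔛 h𝔛.1 O => f (σ i).1) hd
      rw [Finsupp.sum, Finset.sum_subset (s₂ := U')
        (fun j hj => hU' (α, β) j (hsup hj))
        (fun j _ hj => by rw [Finsupp.notMem_support_iff.1 hj, zero_smul])] at h1
      simp only [Finsupp.sub_apply, QcFT.rA_apply, Finsupp.finsetSum_apply, Finsupp.smul_apply,
        smul_eq_mul] at h1
      rw [h1, τ.sum_comp fun j => d j.1 * CohPres.resA h𝔛.1 _ (B j.1 (σ i).1),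
        Finset.sum_coe_sort U' fun j => d j * CohPres.resA h𝔛.1 _ (B j (σ i).1)]
  let v : p.generators.I →₀ Levels.A 𝔛 h𝔛.1 W := ∑ i, Finsupp.single (σ i).1 (Y i)
  refine ⟨v, sub_eq_zero.1 (TorsCoh.eq_zero_of_locally _ _ fun x hx => ?_)⟩
  obtain ⟨w, hw, hxw⟩ := Set.mem_iUnion₂.1 (hT hx)
  obtain ⟨d, hd⟩ := hY ⟨w, hw⟩
  refine ⟨V w, eV w, hxw, ?_⟩
  have hv : QcFT.rA h𝔛 (eV w) v = c w - ∑ j, d j • QcFT.rA h𝔛 (eV w) (B (τ j).1) :=
    eq_sub_of_glue (CohPres.resA h𝔛.1 (eV w)) (fun i => (σ i).1) (Subtype.val_injective.comp σ.injective) Y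
      (c w) d (fun j => B (τ j).1) (fun b => QcFT.rA h𝔛 (eV w) b) (fun b k => QcFT.rA_apply ..) hd
      fun k hk => by
        have hk' : k ∉ I' := fun hh => hk ⟨σ.symm ⟨k, hh⟩, by simp only [Equiv.apply_symm_apply]⟩
        exact ⟨hI1 ⟨w, hw⟩ k hk', fun j => hI2 (τ j).1 (τ j).2 k hk'⟩
  rw [map_sub, QcFT.comb_res, hv, map_sub, hc, map_sum, Finset.sum_eq_zero, sub_zero, sub_self]
  intro j _
  rw [map_smul, ← QcFT.comb_res h𝔛 p.generators e (eV w), hB, map_zero, smul_zero]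

/-- All sections over the affine open generate and have their relations generated over it. -/
def Good (F : FSch.ModF 𝔛 h𝔛.1) (W : (𝔛.X 0).Opens) : Prop :=
  TorsQcoh.GenAt F (⊤ : Submodule (Levels.A 𝔛 h𝔛.1 W) (sec h𝔛.1 F W)) (fun _ _ => True) ∧
    TorsQcoh.QAt F (⊤ : Submodule (Levels.A 𝔛 h𝔛.1 W) (sec h𝔛.1 F W))

theorem good_of_presentation {G : FSch.ModF 𝔛 h𝔛.1} {W₀ : (𝔛.X 0).Opens}
    (p : (SheafOfModules.over G W₀).Presentation) {W : (𝔛.X 0).Opens} (hW : IsAffineOpen W) (e : W ≤ W₀) :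
    Good h𝔛 G W := by
  have htop : LinearMap.range (QcFT.comb h𝔛 p.generators e) = ⊤ :=
    top_unique fun b _ => exists_comb h𝔛 p hW e b
  exact ⟨htop ▸ TorsQcoh.genAt_comb h𝔛 p e, htop ▸ TorsQcoh.qAt_comb h𝔛 p hW e⟩

theorem exists_good {F G : FSch.ModF 𝔛 h𝔛.1} [SheafOfModules.IsQuasicoherent.{u} F]
    [SheafOfModules.IsQuasicoherent.{u} G] (x : 𝔛.X 0) :
    ∃ W : (𝔛.X 0).Opens, x ∈ W ∧ IsAffineOpen W ∧ Good h𝔛 F W ∧ Good h𝔛 G W := by
  obtain ⟨W₀, hx₀, ⟨p⟩⟩ := QcFT.exists_presentation h𝔛 (G := F) x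
  obtain ⟨W₁, hx₁, ⟨q⟩⟩ := QcFT.exists_presentation h𝔛 (G := G) x
  obtain ⟨W, hW, hxW, hle⟩ := Opens.isBasis_iff_nbhd.1 (CohPres.isBasis_affine (𝔛.X 0))
    (U := W₀ ⊓ W₁) (x := x) ⟨hx₀, hx₁⟩
  exact ⟨W, hxW, hW, good_of_presentation h𝔛 p hW (hle.trans inf_le_left),
    good_of_presentation h𝔛 q hW (hle.trans inf_le_right)⟩

/-- A presentation of a kernel. -/
theorem presentation_kernel {X Y : FSch.ModF 𝔛 h𝔛.1} {W : (𝔛.X 0).Opens} (φ : X ⟶ Y)
    (hX : Good h𝔛 X W) (LY : Submodule (Levels.A 𝔛 h𝔛.1 W) (sec h𝔛.1 Y W))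
    (hLY : ∀ x : sec h𝔛.1 X W, secMap h𝔛.1 φ W x ∈ LY) (hY : TorsQcoh.QAt Y LY) :
    Nonempty (SheafOfModules.over (kernel φ) W).Presentation := by
  refine TorsQcoh.nonempty_presentation h𝔛 (kernel.ι φ) (LinearMap.ker (secMap h𝔛.1 φ W))
    (fun x hx => CohCons.exists_kernel φ x (LinearMap.mem_ker.1 hx))
    (fun Z s => secMap h𝔛.1 φ Z s = 0) (fun Z s => ?_) (fun Z hZ s hs z hz => ?_)
    (hX.2.mono le_top)
  · rw [← secMap_comp, kernel.condition]
    rfl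
  · obtain ⟨V, hVZ, m, a, t, hzV, -, hst⟩ := hX.1 Z hZ s trivial z hz
    have h0 : ∑ i, a i • CohPres.resF h𝔛.1 Y (hVZ.trans hZ) (secMap h𝔛.1 φ W (t i)) = 0 := by
      have h1 := congrArg (secMap h𝔛.1 φ V) hst
      rw [secMap_res, hs, map_zero, map_sum] at h1
      simp only [map_smul, secMap_res] at h1
      exact h1.symm
    obtain ⟨U, hUV, hzU, hm⟩ := hY m _ (fun i => hLY (t i)) V (hVZ.trans hZ) a h0 z hzV
    obtain ⟨n, d, r, hr, hd⟩ := exists_of_mem_span (hUV.trans (hVZ.trans hZ)) hm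
    refine ⟨U, hUV.trans hVZ, n, d, fun j => ∑ i, r j i • t i, hzU, fun j => ?_, ?_⟩
    · rw [LinearMap.mem_ker, map_sum]
      simp only [map_smul]
      exact hr j
    · rw [← Groth.Agent.H22.IndColim.resF_resF X hVZ hUV, hst, sum_res_res, ← sum_smul_expand]
      exact Finset.sum_congr rfl fun i _ => congrArg (· • _) (hd i)

variable {X Y : FSch.ModF 𝔛 h𝔛.1} {W : (𝔛.X 0).Opens} (φ : X ⟶ Y)

/-- Relations in a cokernel. -/
theorem qAt_cokernel (hX : Good h𝔛 X W) (hY : Good h𝔛 Y W) :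
    TorsQcoh.QAt (cokernel φ) (LinearMap.range (secMap h𝔛.1 (cokernel.π φ) W)) := by
  intro m b hb Z hZ c hc z hz
  choose g hg using hb
  have hc' : secMap h𝔛.1 (cokernel.π φ) Z (∑ i, c i • CohPres.resF h𝔛.1 Y hZ (g i)) = 0 := by
    rw [map_sum, ← hc]
    simp only [map_smul, secMap_res, hg]
  haveI : Epi (kernel.lift (Limits.cokernel.π φ) φ (cokernel.condition φ)) :=
    (ShortComplex.exact_cokernel φ).epi_kernelLift
  obtain ⟨t, ht⟩ := CohCons.exists_kernel (Limits.cokernel.π φ) _ hc'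
  obtain ⟨V, hVZ, a, hzV, ha⟩ :=
    exists_preimage (kernel.lift (Limits.cokernel.π φ) φ (cokernel.condition φ)) t hz
  have ha' : secMap h𝔛.1 φ V a = CohPres.resF h𝔛.1 Y hVZ (∑ l, c l • CohPres.resF h𝔛.1 Y hZ (g l)) := by
    rw [← ht, ← secMap_res, ← ha, ← secMap_comp, kernel.lift_ι]
  obtain ⟨V', hVV, m', e, u', hzV', -, hu⟩ := hX.1 V (hVZ.trans hZ) a trivial z hzV
  let b' : Fin m ⊕ Fin m' → sec h𝔛.1 Y W := Sum.elim g fun q => secMap h𝔛.1 φ W (u' q)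
  let c' : Fin m ⊕ Fin m' → Levels.A 𝔛 h𝔛.1 V' :=
    Sum.elim (rv h𝔛.1 (hVV.trans hVZ) c) fun q => - e q
  let σ := (finSumFinEquiv (m := m) (n := m')).symm
  have h0 : ∑ q, c' q • CohPres.resF h𝔛.1 Y ((hVV.trans hVZ).trans hZ) (b' q) = 0 := by
    rw [Fintype.sum_sum_type]
    simp only [b', c', Sum.elim_inl, Sum.elim_inr, neg_smul, Finset.sum_neg_distrib]
    rw [← sum_res_res hZ (hVV.trans hVZ), ← Groth.Agent.H22.IndColim.resF_resF Y hVZ hVV, ← ha',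
      ← secMap_res, hu, map_sum]
    simp only [map_smul, secMap_res]
    exact add_neg_cancel _
  obtain ⟨U, hUV, hzU, hm'⟩ := hY.2 (m + m') (fun q => b' (σ q)) (fun _ => trivial) V'
    ((hVV.trans hVZ).trans hZ) (fun q => c' (σ q))
    ((σ.sum_comp fun q => c' q • CohPres.resF h𝔛.1 Y ((hVV.trans hVZ).trans hZ) (b' q)).trans h0) z hzV'
  obtain ⟨n, d, r, hr, hd⟩ := exists_of_mem_span (hUV.trans ((hVV.trans hVZ).trans hZ)) hm'
  refine ⟨U, hUV.trans (hVV.trans hVZ), hzU, mem_span_of_eq _ d (fun j l => r j (σ.symm (Sum.inl l)))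
    (fun j => ?_) fun l => ?_⟩
  · have h1 := congrArg (secMap h𝔛.1 (Limits.cokernel.π φ) W)
      (show ∑ q, r j q • b' (σ q) = 0 from hr j)
    rw [← σ.symm.sum_comp] at h1
    simp only [Equiv.apply_symm_apply] at h1
    rw [Fintype.sum_sum_type, map_add, map_zero] at h1
    simp only [b', Sum.elim_inl, Sum.elim_inr, map_sum, map_smul, hg] at h1
    have h2 : ∑ q, r j (σ.symm (Sum.inr q)) •
        secMap h𝔛.1 (Limits.cokernel.π φ) W (secMap h𝔛.1 φ W (u' q)) = 0 :=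
      Finset.sum_eq_zero fun q _ => by
        rw [← map_smul, ← map_smul, ← secMap_comp, cokernel.condition]
        rfl
    rw [h2, add_zero] at h1
    exact h1
  · have h1 := hd (σ.symm (Sum.inl l))
    simp only [c', rv, Equiv.apply_symm_apply, Sum.elim_inl,
      Groth.Agent.H22.IndColim.resA_resA] at h1
    exact h1

/-- A presentation of a cokernel. -/
theorem presentation_cokernel (hX : Good h𝔛 X W) (hY : Good h𝔛 Y W) :
    Nonempty (SheafOfModules.over (cokernel φ) W).Presentation := by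
  refine TorsQcoh.nonempty_presentation h𝔛 (𝟙 _) (LinearMap.range (secMap h𝔛.1 (cokernel.π φ) W))
    (fun x _ => ⟨x, rfl⟩) (fun _ _ => True) (fun _ _ => trivial) (fun Z hZ s _ z hz => ?_)
    (qAt_cokernel h𝔛 φ hX hY)
  obtain ⟨V, hVZ, t, hzV, ht⟩ := exists_preimage (Limits.cokernel.π φ) s hz
  obtain ⟨V', hVV, m, a, g, hzV', -, hg⟩ := hY.1 V (hVZ.trans hZ) t trivial z hzV
  refine ⟨V', hVV.trans hVZ, m, a, fun i => secMap h𝔛.1 (cokernel.π φ) W (g i), hzV',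
    fun i => ⟨g i, rfl⟩, ?_⟩
  rw [← Groth.Agent.H22.IndColim.resF_resF _ hVZ hVV, ← ht, ← secMap_res, hg, map_sum]
  simp only [map_smul, secMap_res]

/-- Kernels, images and cokernels of maps of quasi-coherent modules are quasi-coherent. -/
theorem main [SheafOfModules.IsQuasicoherent.{u} X] [SheafOfModules.IsQuasicoherent.{u} Y] :
    SheafOfModules.IsQuasicoherent.{u} (kernel φ) ∧ SheafOfModules.IsQuasicoherent.{u} (Abelian.image φ) ∧
      SheafOfModules.IsQuasicoherent.{u} (cokernel φ) := by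
  choose W hx hW hX hY using exists_good h𝔛 (F := X) (G := Y)
  refine ⟨Lib.FSchInd28.Span.isQuasicoherent_of_span _ fun x => ⟨W x, hx x,
      presentation_kernel h𝔛 φ (hX x) ⊤ (fun _ => trivial) (hY x).2⟩,
    Lib.FSchInd28.Span.isQuasicoherent_of_span _ fun x => ⟨W x, hx x, ?_⟩,
    Lib.FSchInd28.Span.isQuasicoherent_of_span _ fun x => ⟨W x, hx x,
      presentation_cokernel h𝔛 φ (hX x) (hY x)⟩⟩
  exact presentation_kernel h𝔛 (cokernel.π φ) (hY x) _ (fun y => LinearMap.mem_range_self _ y)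
    (qAt_cokernel h𝔛 φ (hX x) (hY x))

end Groth.Agent.H54.FSchQc
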