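import Groth.Agent.H54.FSchQc.Main
import Groth.Agent.H30.FSch.CohSerre

/-!
# Finite sums and locally defined kernels of good modules on formal schemes
-/

set_option autoImplicit false
set_option linter.style.haveILetI false
set_option maxHeartbeats 1000000

universe u

open CategoryTheory CategoryTheory.Limits AlgebraicGeometry TopologicalSpace Opposite
open Groth.Agent.H30 Groth.Agent.H30.RealLimSec Groth.Agent.H22.IndColim

namespace Groth.Agent.H54.FSchQc

variable {𝔛 : FSch.Sys.{u}} {h : 𝔛.IsFormal}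

theorem secMap_sum {F G : FSch.ModF 𝔛 h} {ι : Type*} (s : Finset ι) (φ : ι → (F ⟶ G))
    (Z : (𝔛.X 0).Opens) (x : sec h F Z) :
    secMap h (∑ i ∈ s, φ i) Z x = ∑ i ∈ s, secMap h (φ i) Z x := by
  classical
  induction s using Finset.induction_on with
  | empty => simp only [Finset.sum_empty]; rfl
  | insert a s ha ih =>
    rw [Finset.sum_insert ha, Finset.sum_insert ha, ← ih]
    rfl

theorem eq_sum_comp {M G : FSch.ModF 𝔛 h} {ι : Type*} [Fintype ι] (p : ι → (M ⟶ G)) (q : ι → (G ⟶ M))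
    (hpq : ∑ i, p i ≫ q i = 𝟙 M) (Z : (𝔛.X 0).Opens) (x : sec h M Z) :
    x = ∑ i, secMap h (q i) Z (secMap h (p i) Z x) := by
  have h1 : secMap h (∑ i, p i ≫ q i) Z x = x := by rw [hpq]; rfl
  rw [secMap_sum] at h1
  exact h1.symm.trans (Finset.sum_congr rfl fun i _ => secMap_comp _ _ _ _)

variable (h𝔛 : 𝔛.IsLocNoethFormal)

/-- A finite sum of copies of a good module is good. -/
theorem good_sum {M G : FSch.ModF 𝔛 h𝔛.1} {ι : Type} [Fintype ι] (p : ι → (M ⟶ G)) (q : ι → (G ⟶ M))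
    (hpq : ∑ i, p i ≫ q i = 𝟙 M) {W : (𝔛.X 0).Opens} (hG : Good h𝔛 G W) : Good h𝔛 M W := by
  classical
  refine ⟨fun Z hZ s _ z hz => ?_, fun m b _ Z hZ c hc z hz => ?_⟩
  · choose V hVZ n a t hzV ht he using fun i : ι => hG.1 Z hZ (secMap h𝔛.1 (p i) Z s) trivial z hz
    obtain ⟨U, hU, hzU, hle⟩ := Opens.isBasis_iff_nbhd.1 (CohPres.isBasis_affine (𝔛.X 0))
      (U := Z ⊓ Finset.univ.inf V) (x := z) ⟨hz, by
        rw [Opens.coe_finset_inf, Finset.inf_set_eq_iInter]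
        exact Set.mem_iInter₂.2 fun k _ => hzV k⟩
    have hUV : ∀ i, U ≤ V i := fun i => hle.trans (inf_le_right.trans (Finset.inf_le (Finset.mem_univ i)))
    let e : (Σ i, Fin (n i)) ≃ Fin (Fintype.card (Σ i, Fin (n i))) := Fintype.equivFin _
    refine ⟨U, hle.trans inf_le_left, _, fun k => CohPres.resA h𝔛.1 (hUV (e.symm k).1) (a _ (e.symm k).2),
      fun k => secMap h𝔛.1 (q (e.symm k).1) W (t _ (e.symm k).2), hzU, fun _ => trivial, ?_⟩
    rw [e.symm.sum_comp fun k : (Σ i, Fin (n i)) => CohPres.resA h𝔛.1 (hUV k.1) (a _ k.2) •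
      CohPres.resF h𝔛.1 M ((hle.trans inf_le_left).trans hZ) (secMap h𝔛.1 (q k.1) W (t _ k.2)),
      Fintype.sum_sigma]
    conv_lhs => rw [eq_sum_comp p q hpq Z s, map_sum]
    refine Finset.sum_congr rfl fun i _ => ?_
    have h1 := congrArg (secMap h𝔛.1 (q i) (V i)) (he i)
    rw [secMap_res, map_sum] at h1
    simp only [map_smul, secMap_res] at h1
    have h2 := congrArg (CohPres.resF h𝔛.1 M (hUV i)) h1
    rw [Groth.Agent.H22.IndColim.resF_resF, sum_res_res] at h2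
    exact h2
  · have hS : ∀ S : Finset ι, ∃ (V : (𝔛.X 0).Opens) (hVZ : V ≤ Z) (_ : z ∈ V) (n : ℕ)
        (d : Fin n → Levels.A 𝔛 h𝔛.1 V) (r : Fin n → Fin m → Levels.A 𝔛 h𝔛.1 W),
        (∀ j, ∀ i ∈ S, ∑ l, r j l • secMap h𝔛.1 (p i) W (b l) = 0) ∧
        ∀ l, CohPres.resA h𝔛.1 hVZ (c l) = ∑ j, d j * CohPres.resA h𝔛.1 (hVZ.trans hZ) (r j l) := by
      intro S
      induction S using Finset.induction_on with
      | empty =>
        refine ⟨Z, le_rfl, hz, m, fun l => CohPres.resA h𝔛.1 le_rfl (c l), fun j l => if j = l then 1 else 0,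
          fun j i hi => absurd hi (Finset.notMem_empty i), fun l => ?_⟩
        beta_reduce
        rw [Finset.sum_eq_single l (fun j _ hne => by simp only [if_neg hne, map_zero, mul_zero])
          (fun hh => absurd (Finset.mem_univ l) hh), if_pos rfl, map_one, mul_one]
      | insert i S _ ih =>
        obtain ⟨V, hVZ, hzV, n, d, r, hr, hd⟩ := ih
        have h0 : ∑ j, d j • CohPres.resF h𝔛.1 G (hVZ.trans hZ)
            (∑ l, r j l • secMap h𝔛.1 (p i) W (b l)) = 0 := by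
          rw [← sum_smul_expand]
          have h1 := congrArg (CohPres.resF h𝔛.1 G hVZ) (congrArg (secMap h𝔛.1 (p i) Z) hc)
          rw [map_sum] at h1
          simp only [map_smul, secMap_res, map_zero] at h1
          rw [sum_res_res] at h1
          simpa only [← hd] using h1
        obtain ⟨U, hUV, hzU, hm⟩ := hG.2 n _ (fun _ => trivial) V (hVZ.trans hZ) d h0 z hzV
        obtain ⟨n', e', w, hw, he⟩ := exists_of_mem_span (hUV.trans (hVZ.trans hZ)) hm
        refine ⟨U, hUV.trans hVZ, hzU, n', e', fun k l => ∑ j, w k j * r j l, fun k i' hi' => ?_, fun l => ?_⟩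
        · have hexp : ∑ l, (∑ j, w k j * r j l) • secMap h𝔛.1 (p i') W (b l) =
              ∑ j, w k j • ∑ l, r j l • secMap h𝔛.1 (p i') W (b l) := by
            simp only [Finset.sum_smul, mul_smul, Finset.smul_sum]
            exact Finset.sum_comm
          rw [hexp]
          rcases Finset.mem_insert.1 hi' with rfl | hi'
          · exact hw k
          · exact Finset.sum_eq_zero fun j _ => by rw [hr j i' hi', smul_zero]
        · rw [← Groth.Agent.H22.IndColim.resA_resA hVZ hUV, hd l, map_sum]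
          simp only [map_mul, Groth.Agent.H22.IndColim.resA_resA, map_sum, Finset.mul_sum]
          rw [Finset.sum_comm]
          refine Finset.sum_congr rfl fun j _ => ?_
          rw [show CohPres.resA h𝔛.1 hUV (d j) = _ from he j, Finset.sum_mul]
          exact Finset.sum_congr rfl fun q _ => mul_assoc _ _ _
    obtain ⟨V, hVZ, hzV, n, d, r, hr, hd⟩ := hS Finset.univ
    refine ⟨V, hVZ, hzV, mem_span_of_eq _ d r (fun j => ?_) hd⟩
    show ∑ l, r j l • b l = 0
    rw [eq_sum_comp p q hpq W (∑ l, r j l • b l)]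
    refine Finset.sum_eq_zero fun i _ => ?_
    have h1 : secMap h𝔛.1 (p i) W (∑ l, r j l • b l) = 0 := by
      rw [map_sum]
      simp only [map_smul]
      exact hr j i (Finset.mem_univ i)
    rw [h1, map_zero]

variable {N M M' : FSch.ModF 𝔛 h𝔛.1} {W₀ : (𝔛.X 0).Opens}

/-- Sections of a morphism of modules over an open subspace. -/
noncomputable def oMap (f : SheafOfModules.over N W₀ ⟶ SheafOfModules.over M W₀) {Z : (𝔛.X 0).Opens}
    (e : Z ≤ W₀) : sec h𝔛.1 N Z →ₗ[Levels.A 𝔛 h𝔛.1 Z] sec h𝔛.1 M Z :=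
  (f.val.app (op (Over.mk (homOfLE e)))).hom

theorem oMap_res (f : SheafOfModules.over N W₀ ⟶ SheafOfModules.over M W₀) {Z V : (𝔛.X 0).Opens}
    (e : Z ≤ W₀) (e' : V ≤ Z) (s : sec h𝔛.1 N Z) :
    oMap h𝔛 f (e'.trans e) (CohPres.resF h𝔛.1 N e' s) = CohPres.resF h𝔛.1 M e' (oMap h𝔛 f e s) :=
  PresheafOfModules.naturality_apply f.val
    (Over.homMk (U := Over.mk (homOfLE (e'.trans e))) (V := Over.mk (homOfLE e)) (homOfLE e')).op s

variable {ι₀ : SheafOfModules.over N W₀ ⟶ SheafOfModules.over M W₀}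
  {ψ : SheafOfModules.over M W₀ ⟶ SheafOfModules.over M' W₀} (w : ι₀ ≫ ψ = 0) [Mono ι₀]

theorem oMap_injective {Z : (𝔛.X 0).Opens} (e : Z ≤ W₀) : Function.Injective (oMap h𝔛 ι₀ e) :=
  (ModuleCat.mono_iff_injective _).1
    (inferInstanceAs (Mono ((SheafOfModules.evaluation _ (op (Over.mk (homOfLE e)))).map ι₀)))

variable (hex : (ShortComplex.mk ι₀ ψ w).Exact)

include hex in
theorem exists_oMap {Z : (𝔛.X 0).Opens} (e : Z ≤ W₀) (t : sec h𝔛.1 M Z) (ht : oMap h𝔛 ψ e t = 0) :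
    ∃ s, oMap h𝔛 ι₀ e s = t := by
  let E := SheafOfModules.evaluation.{u} ((ModSite.ringSh (𝔛.Osh h𝔛.1)).over W₀) (op (Over.mk (homOfLE e)))
  haveI : PreservesLimitsOfShape WalkingParallelPair E := inferInstance
  haveI : E.Additive := ⟨fun {X Y f g} => rfl⟩
  have h1 : ((ShortComplex.mk ι₀ ψ w).map E).Exact :=
    hex.map_of_mono_of_preservesKernel E ‹_› inferInstance
  exact (ShortComplex.moduleCat_exact_iff _).1 h1 t ht

include w in
theorem oMap_comp {Z : (𝔛.X 0).Opens} (e : Z ≤ W₀) (s : sec h𝔛.1 N Z) :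
    oMap h𝔛 ψ e (oMap h𝔛 ι₀ e s) = 0 := by
  have h1 := congrArg (fun f : SheafOfModules.over N W₀ ⟶ SheafOfModules.over M' W₀ => oMap h𝔛 f e s) w
  exact h1

include w hex in
/-- A kernel defined over an open subspace of good modules is good. -/
theorem good_over {W : (𝔛.X 0).Opens} (e : W ≤ W₀) (hM : Good h𝔛 M W) (hM' : Good h𝔛 M' W) :
    Good h𝔛 N W := by
  refine ⟨fun Z hZ s _ z hz => ?_, fun m b _ Z hZ c hc z hz => ?_⟩
  · obtain ⟨V, hVZ, n, a, γ, hzV, -, hγ⟩ := hM.1 Z hZ (oMap h𝔛 ι₀ (hZ.trans e) s) trivial z hz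
    have h0 : ∑ i, a i • CohPres.resF h𝔛.1 M' (hVZ.trans hZ) (oMap h𝔛 ψ e (γ i)) = 0 := by
      have h1 := congrArg (oMap h𝔛 ψ ((hVZ.trans hZ).trans e)) hγ
      rw [oMap_res h𝔛 ψ (hZ.trans e) hVZ, oMap_comp h𝔛 w, map_zero, map_sum] at h1
      refine Eq.trans (Finset.sum_congr rfl fun i _ => ?_) h1.symm
      rw [map_smul, oMap_res h𝔛 ψ e (hVZ.trans hZ)]
    obtain ⟨U, hUV, hzU, hm⟩ := hM'.2 n _ (fun _ => trivial) V (hVZ.trans hZ) a h0 z hzV
    obtain ⟨n', d, r, hr, hd⟩ := exists_of_mem_span (hUV.trans (hVZ.trans hZ)) hm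
    choose u hu using fun j => exists_oMap h𝔛 (ι₀ := ι₀) (ψ := ψ) w hex e (∑ i, r j i • γ i) (by
      rw [map_sum]
      simp only [map_smul]
      exact hr j)
    refine ⟨U, hUV.trans hVZ, n', d, u, hzU, fun _ => trivial,
      oMap_injective h𝔛 (ι₀ := ι₀) ((hUV.trans (hVZ.trans hZ)).trans e) ?_⟩
    rw [oMap_res h𝔛 ι₀ (hZ.trans e) (hUV.trans hVZ), ← Groth.Agent.H22.IndColim.resF_resF M hVZ hUV,
      hγ, sum_res_res, map_sum]
    have h2 : ∀ j, oMap h𝔛 ι₀ ((hUV.trans (hVZ.trans hZ)).trans e)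
        (d j • CohPres.resF h𝔛.1 N ((hUV.trans hVZ).trans hZ) (u j)) =
        d j • CohPres.resF h𝔛.1 M (hUV.trans (hVZ.trans hZ)) (∑ i, r j i • γ i) := fun j => by
      rw [map_smul, oMap_res h𝔛 ι₀ e (hUV.trans (hVZ.trans hZ)), hu]
    rw [Finset.sum_congr rfl fun j _ => h2 j, ← sum_smul_expand]
    exact Finset.sum_congr rfl fun i _ => congrArg (· • _) (hd i)
  · obtain ⟨V, hVZ, hzV, hm⟩ := hM.2 m (fun l => oMap h𝔛 ι₀ e (b l)) (fun _ => trivial) Z hZ c (by
      have h1 := congrArg (oMap h𝔛 ι₀ (hZ.trans e)) hc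
      rw [map_sum, map_zero] at h1
      refine Eq.trans (Finset.sum_congr rfl fun i _ => ?_) h1
      rw [map_smul, oMap_res h𝔛 ι₀ e hZ]) z hz
    obtain ⟨n, d, r, hr, hd⟩ := exists_of_mem_span (hVZ.trans hZ) hm
    refine ⟨V, hVZ, hzV, mem_span_of_eq _ d r (fun j => oMap_injective h𝔛 (ι₀ := ι₀) e ?_) hd⟩
    rw [map_sum, map_zero]
    simp only [map_smul]
    exact hr j

/-- Finite generation of sections of a submodule defined over an open subspace. -/
theorem fg_over {W : (𝔛.X 0).Opens} (hW : IsAffineOpen W) (e : W ≤ W₀)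
    (hM : FSch.IsCohF 𝔛 h𝔛.1 M) (i₀ : SheafOfModules.over N W₀ ⟶ SheafOfModules.over M W₀) [Mono i₀] :
    (⊤ : Submodule (Levels.A 𝔛 h𝔛.1 W) (sec h𝔛.1 N W)).FG := by
  haveI := CohExact.finite_sec h𝔛 hM hW
  haveI := Levels.isNoetherianRing_A h𝔛 hW
  haveI := isNoetherian_of_injective (oMap h𝔛 i₀ e) (oMap_injective h𝔛 e)
  exact IsNoetherian.noetherian _

end Groth.Agent.H54.FSchQc
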